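import Mathlib
import Cfsg.Prelude.Def_Characters
import Cfsg.Agent.Lib.Chars.Induced
import Cfsg.Agent.Lib.Chars.Completeness

/-!
# Invariant characters of subgroups, multiplicities

Everything lives in an ambient group `Γ`; `IsInv S χ` says that conjugation by elements of `S`
leaves the function `χ` on the subgroup `H` unchanged, `IsConjBy γ χ χ'` that `χ'` is the
transport of `χ` by `γ`.
-/

set_option autoImplicit false

namespace Cfsg.Agent.Lib.Glauberman

open scoped ComplexConjugate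
open Cfsg.Agent.Lib

variable {Γ : Type*} [Group Γ] {H K L : Subgroup Γ}

/-- `χ` is invariant under conjugation by `S`. -/
def IsInv (S : Subgroup Γ) (χ : H → ℂ) : Prop :=
  ∀ s ∈ S, ∀ g g' : H, (g' : Γ) = s * g * s⁻¹ → χ g' = χ g

/-- `χ'` is obtained from `χ` by transporting along conjugation by `γ`. -/
def IsConjBy (γ : Γ) (χ χ' : H → ℂ) : Prop :=
  ∀ g g' : H, (g' : Γ) = γ * g * γ⁻¹ → χ' g' = χ g

/-- Restriction of a function to a smaller subgroup. -/
def resSub (h : K ≤ H) (χ : H → ℂ) : K → ℂ := fun c => χ ⟨c, h c.2⟩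

/-- `γ` normalises `H`. -/
def Normalises (γ : Γ) (H : Subgroup Γ) : Prop := ∀ g, g ∈ H ↔ γ * g * γ⁻¹ ∈ H

@[simp] theorem resSub_apply (h : K ≤ H) (χ : H → ℂ) (c : K) : resSub h χ c = χ ⟨c, h c.2⟩ := rfl

theorem resSub_resSub (h : K ≤ H) (h' : L ≤ K) (χ : H → ℂ) :
    resSub h' (resSub h χ) = resSub (h'.trans h) χ := rfl

theorem IsInv.mono {S T : Subgroup Γ} {χ : H → ℂ} (h : IsInv S χ) (hTS : T ≤ S) : IsInv T χ :=
  fun s hs => h s (hTS hs)

theorem isInv_iff {S : Subgroup Γ} {χ : H → ℂ} :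
    IsInv S χ ↔ ∀ s ∈ S, IsConjBy s χ χ := Iff.rfl

theorem isCharacter_resSub [Finite Γ] (h : K ≤ H) {χ : H → ℂ} (hχ : Cfsg.IsCharacter H χ) :
    Cfsg.IsCharacter K (resSub h χ) := by
  obtain ⟨n, ρ, rfl⟩ := hχ
  exact ⟨n, ρ.comp (Subgroup.inclusion h), rfl⟩

theorem Normalises.mul {γ δ : Γ} (hγ : Normalises γ H) (hδ : Normalises δ H) :
    Normalises (γ * δ) H := fun g => by
  rw [hδ g, hγ]; simp [mul_assoc]

theorem Normalises.inv {γ : Γ} (hγ : Normalises γ H) : Normalises γ⁻¹ H := fun g => by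
  rw [hγ (γ⁻¹ * g * γ⁻¹⁻¹)]; simp [mul_assoc]

theorem normalises_of_mem [Finite Γ] {γ : Γ} (h : ∀ g ∈ H, γ * g * γ⁻¹ ∈ H) : Normalises γ H := by
  intro g
  refine ⟨h g, fun hg => ?_⟩
  let f : H → H := fun x => ⟨γ * x * γ⁻¹, h x x.2⟩
  have hf : Function.Injective f := fun x y hxy => by
    simpa [f] using congrArg Subtype.val hxy
  obtain ⟨x, hx⟩ := (Finite.injective_iff_surjective.1 hf) ⟨_, hg⟩
  have : (x : Γ) = g := by simpa [f] using congrArg Subtype.val hx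
  exact this ▸ x.2

theorem normalises_of_subgroup [Finite Γ] {S : Subgroup Γ} (h : ∀ s ∈ S, ∀ g ∈ H, s * g * s⁻¹ ∈ H)
    {s : Γ} (hs : s ∈ S) : Normalises s H := normalises_of_mem (h s hs)

/-- Conjugation by a normalising element, as an automorphism of the subgroup. -/
def conjEquiv {γ : Γ} (hγ : Normalises γ H) : H ≃* H where
  toFun g := ⟨γ * g * γ⁻¹, (hγ g).1 g.2⟩
  invFun g := ⟨γ⁻¹ * g * γ, (hγ _).2 (by simp [mul_assoc])⟩
  left_inv g := Subtype.ext (by simp [mul_assoc])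
  right_inv g := Subtype.ext (by simp [mul_assoc])
  map_mul' a b := Subtype.ext (by simp [mul_assoc])

@[simp] theorem conjEquiv_coe {γ : Γ} (hγ : Normalises γ H) (g : H) :
    ((conjEquiv hγ g : H) : Γ) = γ * g * γ⁻¹ := rfl

@[simp] theorem conjEquiv_symm_coe {γ : Γ} (hγ : Normalises γ H) (g : H) :
    (((conjEquiv hγ).symm g : H) : Γ) = γ⁻¹ * g * γ := rfl

theorem isConjBy_iff {γ : Γ} (hγ : Normalises γ H) {χ χ' : H → ℂ} :
    IsConjBy γ χ χ' ↔ ∀ g, χ' (conjEquiv hγ g) = χ g := by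
  refine ⟨fun h g => h g _ rfl, fun h g g' hg => ?_⟩
  have : g' = conjEquiv hγ g := Subtype.ext hg
  rw [this, h]

theorem IsConjBy.eq {γ : Γ} (hγ : Normalises γ H) {χ χ' χ'' : H → ℂ} (h : IsConjBy γ χ χ')
    (h' : IsConjBy γ χ χ'') : χ' = χ'' := by
  funext g
  obtain ⟨g₀, rfl⟩ := (conjEquiv hγ).surjective g
  rw [(isConjBy_iff hγ).1 h, (isConjBy_iff hγ).1 h']

theorem IsConjBy.eq_left {γ : Γ} (hγ : Normalises γ H) {χ₁ χ₂ χ' : H → ℂ} (h : IsConjBy γ χ₁ χ')
    (h' : IsConjBy γ χ₂ χ') : χ₁ = χ₂ := by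
  funext g
  rw [← (isConjBy_iff hγ).1 h g, ← (isConjBy_iff hγ).1 h' g]

theorem IsConjBy.trans {γ δ : Γ} (hγ : Normalises γ H) {χ χ' χ'' : H → ℂ} (h : IsConjBy γ χ χ')
    (h' : IsConjBy δ χ' χ'') : IsConjBy (δ * γ) χ χ'' := by
  intro g g' hg
  rw [← h g (conjEquiv hγ g) rfl]
  exact h' _ g' (by rw [hg]; simp [mul_assoc])

theorem exists_isConjBy [Finite Γ] {γ : Γ} (hγ : Normalises γ H) (χ : IrrCharacter H) :
    ∃ χ' : IrrCharacter H, IsConjBy γ (χ : H → ℂ) (χ' : H → ℂ) := by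
  haveI : Fintype H := Fintype.ofFinite H
  refine ⟨⟨fun g => (χ : H → ℂ) ((conjEquiv hγ).symm g), ?_⟩, ?_⟩
  · obtain ⟨n, ρ, hρ, hχ⟩ := χ.2
    have hc : Cfsg.IsCharacter H (fun g => (χ : H → ℂ) ((conjEquiv hγ).symm g)) :=
      ⟨n, ρ.comp (conjEquiv hγ).symm.toMonoidHom, funext fun g => congrFun hχ _⟩
    rw [Chars.isIrrCharacter_iff_classInner_eq_one hc]
    have h1 := (Chars.isIrrCharacter_iff_classInner_eq_one (Chars.irr_isCharacter χ)).1 χ.2
    rw [← h1]
    unfold classInner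
    congr 1
    exact Fintype.sum_equiv (conjEquiv hγ).symm.toEquiv _ _ fun g => rfl
  · rw [isConjBy_iff hγ]
    intro g
    simp

/-- The multiplicity `[φ, ψ]` as a natural number. -/
noncomputable def charMult [Finite H] (φ ψ : H → ℂ) : ℕ :=
  haveI := Fintype.ofFinite H
  ⌊(classInner φ ψ).re⌋₊

theorem charMult_spec [Fintype H] {φ ψ : H → ℂ} (hφ : Cfsg.IsCharacter H φ)
    (hψ : Cfsg.IsCharacter H ψ) : classInner φ ψ = (charMult φ ψ : ℂ) := by
  have hF : (inferInstance : Fintype H) = Fintype.ofFinite H := Subsingleton.elim _ _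
  obtain ⟨k, hk⟩ := Chars.isCharacter_classInner_nat hφ hψ
  have : charMult φ ψ = k := by
    unfold charMult
    rw [← hF, hk]
    simp
  rw [this, hk]

theorem charMult_eq_of [Fintype H] {φ ψ : H → ℂ} {m : ℕ} (h : classInner φ ψ = (m : ℂ)) :
    charMult φ ψ = m := by
  have hF : (inferInstance : Fintype H) = Fintype.ofFinite H := Subsingleton.elim _ _
  unfold charMult
  rw [← hF, h]
  simp

theorem eq_sum_charMult [Finite H] {φ : H → ℂ} (hφ : Cfsg.IsCharacter H φ) :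
    φ = ∑ χ : IrrCharacter H, (charMult φ (χ : H → ℂ) : ℂ) • (χ : H → ℂ) := by
  haveI := Fintype.ofFinite H
  conv_lhs => rw [Chars.isCharacter_eq_sum_classInner hφ]
  exact Finset.sum_congr rfl fun χ _ => by
    rw [charMult_spec hφ (Chars.irr_isCharacter χ)]

theorem charMult_irr [Finite H] (χ ψ : IrrCharacter H) [Decidable (χ = ψ)] :
    charMult (χ : H → ℂ) (ψ : H → ℂ) = if χ = ψ then 1 else 0 := by
  haveI := Fintype.ofFinite H
  refine charMult_eq_of ?_
  by_cases h : χ = ψ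
  · subst h; simp [Chars.classInner_irr_self]
  · rw [Chars.classInner_irr_of_ne h, if_neg h]; simp

/-- Transitivity of multiplicities along `L ≤ K ≤ H`. -/
theorem charMult_trans [Finite H] [Finite K] [Finite L] [Finite Γ] (h : K ≤ H) (h' : L ≤ K) {χ : H → ℂ}
    (hχ : Cfsg.IsCharacter H χ) (γ : IrrCharacter L) :
    charMult (resSub (h'.trans h) χ) (γ : L → ℂ) =
      ∑ δ : IrrCharacter K, charMult (resSub h χ) (δ : K → ℂ) *
        charMult (resSub h' (δ : K → ℂ)) (γ : L → ℂ) := by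
  haveI := Fintype.ofFinite L
  refine charMult_eq_of ?_
  have h1 := eq_sum_charMult (isCharacter_resSub h hχ)
  conv_lhs => rw [← resSub_resSub h h', h1]
  have h2 : resSub h' (∑ δ : IrrCharacter K, (charMult (resSub h χ) (δ : K → ℂ) : ℂ) • (δ : K → ℂ))
      = ∑ δ : IrrCharacter K, (charMult (resSub h χ) (δ : K → ℂ) : ℂ) • resSub h' (δ : K → ℂ) := by
    funext c
    simp [Finset.sum_apply]
  rw [h2, Chars.classInner_sum_left]
  push_cast
  refine Finset.sum_congr rfl fun δ _ => ?_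
  rw [Chars.classInner_smul_left,
    charMult_spec (isCharacter_resSub h' (Chars.irr_isCharacter δ)) (Chars.irr_isCharacter γ)]

theorem charMult_conjBy [Finite H] [Finite K] {γ : Γ} (hH : Normalises γ H) (hK : Normalises γ K)
    (h : K ≤ H) {χ χ' : H → ℂ} (hχ : IsConjBy γ χ χ') {β β' : K → ℂ} (hβ : IsConjBy γ β β') :
    charMult (resSub h χ') β' = charMult (resSub h χ) β := by
  letI := Fintype.ofFinite K
  unfold charMult classInner
  suffices e : ∑ c : K, resSub h χ c * conj (β c) = ∑ c : K, resSub h χ' c * conj (β' c) by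
    exact congrArg (fun z : ℂ => ⌊((Nat.card K : ℂ)⁻¹ * z).re⌋₊) e.symm
  refine Fintype.sum_equiv (conjEquiv hK).toEquiv _ _ fun c => ?_
  rw [← hβ c (conjEquiv hK c) rfl]
  simp only [resSub_apply, MulEquiv.toEquiv_eq_coe, EquivLike.coe_coe]
  rw [← hχ ⟨c, h c.2⟩ ⟨(conjEquiv hK c : K), h (conjEquiv hK c).2⟩ rfl]

end Cfsg.Agent.Lib.Glauberman
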