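import Mathlib
import Cfsg.Agent.Lib.Glauberman.Defs
import Cfsg.Agent.Lib.Clifford.Correspondence
import Cfsg.Agent.Lib.Chars.Integral

/-!
# Constituents above and below, for subgroups of an ambient group
-/

set_option autoImplicit false

namespace Cfsg.Agent.Lib.Glauberman

open Cfsg
open Cfsg.Agent.Lib
open scoped ComplexConjugate

variable {Γ : Type*} [Group Γ] [Finite Γ] {G N C D : Subgroup Γ}

/-- A character of `D` seen on `D.subgroupOf C`. -/
noncomputable def pullSub (hDC : D ≤ C) (α : D → ℂ) : D.subgroupOf C → ℂ :=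
  fun x => α (Subgroup.subgroupOfEquivOfLe hDC x)

theorem isIrr_pullSub (hDC : D ≤ C) (α : IrrCharacter D) :
    IsIrrCharacter (D.subgroupOf C) (pullSub hDC (α : D → ℂ)) :=
  Clifford.isIrrCharacter_comp_equiv (Subgroup.subgroupOfEquivOfLe hDC) α.2

theorem classInner_pullSub [Fintype (D.subgroupOf C)] (hDC : D ≤ C) {χ : C → ℂ}
    (hχ : Cfsg.IsCharacter C χ) (α : IrrCharacter D) :
    classInner (Clifford.resFun (D.subgroupOf C) χ) (pullSub hDC (α : D → ℂ)) =
      (charMult (resSub hDC χ) (α : D → ℂ) : ℂ) := by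
  haveI : Fintype D := Fintype.ofFinite D
  rw [← charMult_spec (isCharacter_resSub hDC hχ) (Chars.irr_isCharacter α)]
  unfold classInner
  rw [Nat.card_congr (Subgroup.subgroupOfEquivOfLe hDC).toEquiv]
  exact congrArg _ (Fintype.sum_equiv (Subgroup.subgroupOfEquivOfLe hDC).toEquiv _ _ fun x => rfl)

/-- Every irreducible character of a subgroup lies below some irreducible character. -/
theorem exists_above (hDC : D ≤ C) (α : IrrCharacter D) :
    ∃ β : IrrCharacter C, charMult (resSub hDC (β : C → ℂ)) (α : D → ℂ) ≠ 0 := by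
  classical
  haveI : Fintype C := Fintype.ofFinite C
  haveI : Fintype (D.subgroupOf C) := Fintype.ofFinite _
  set θ := pullSub hDC (α : D → ℂ) with hθdef
  have hθ := isIrr_pullSub hDC α
  have hI : Cfsg.IsCharacter C (indFun (D.subgroupOf C) θ) :=
    Chars.isCharacter_indFun _ (Chars.isCharacter_of_isIrrCharacter hθ)
  have hne : indFun (D.subgroupOf C) θ ≠ 0 := by
    intro h
    have h1 : classInner (indFun (D.subgroupOf C) θ) (fun _ => 1) = classInner θ (fun _ => 1) :=
      Chars.classInner_indFun_left _ θ _ (fun g k => rfl)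
    have h2 : indFun (D.subgroupOf C) θ 1 = 0 := by rw [h]; rfl
    rw [Chars.indFun_one_eq] at h2
    obtain ⟨n, hn, hn1, -⟩ := Chars.irr_degree_dvd_card α
    have h3 : θ 1 = (n : ℂ) := by
      show (α : D → ℂ) _ = _
      rw [map_one, hn1]
    rw [h3, mul_eq_zero, Nat.cast_eq_zero, Nat.cast_eq_zero] at h2
    rcases h2 with h2 | h2
    · exact Subgroup.index_ne_zero_of_finite h2
    · omega
  by_contra hall
  push Not at hall
  apply hne
  rw [Chars.isCharacter_eq_sum_classInner hI]
  refine Finset.sum_eq_zero fun β _ => ?_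
  have : classInner (indFun (D.subgroupOf C) θ) (β : C → ℂ) = 0 := by
    rw [Chars.classInner_indFun_left _ θ _ (Chars.irr_isClassFunction β), ← Chars.conj_classInner,
      map_eq_zero]
    refine Eq.trans (classInner_pullSub hDC (Chars.irr_isCharacter β) α) ?_
    rw [hall β, Nat.cast_zero]
  rw [this, zero_smul]

/-- Every character of positive degree has a constituent below. -/
theorem exists_below (hDC : D ≤ C) (β : IrrCharacter C) :
    ∃ α : IrrCharacter D, charMult (resSub hDC (β : C → ℂ)) (α : D → ℂ) ≠ 0 := by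
  by_contra hall
  push Not at hall
  have h := congrFun (eq_sum_charMult (isCharacter_resSub hDC (Chars.irr_isCharacter β))) 1
  simp only [hall, Nat.cast_zero, zero_smul, Finset.sum_const_zero] at h
  obtain ⟨n, hn, hn1, -⟩ := Chars.irr_degree_dvd_card β
  have h' : ((n : ℕ) : ℂ) = 0 := hn1 ▸ h
  rw [Nat.cast_eq_zero] at h'
  omega

/-- Constituents of the restriction to a normal subgroup are conjugate. -/
theorem exists_conj_of_constituent (hNG : N ≤ G) (hn : ∀ g ∈ G, ∀ n ∈ N, g * n * g⁻¹ ∈ N)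
    (χ : IrrCharacter G) (θ φ : IrrCharacter N)
    (hθ : charMult (resSub hNG (χ : G → ℂ)) (θ : N → ℂ) ≠ 0)
    (hφ : charMult (resSub hNG (χ : G → ℂ)) (φ : N → ℂ) ≠ 0) :
    ∃ g ∈ G, IsConjBy g (θ : N → ℂ) (φ : N → ℂ) := by
  haveI : Fintype G := Fintype.ofFinite G
  haveI : Fintype (N.subgroupOf G) := Fintype.ofFinite _
  haveI : (N.subgroupOf G).Normal := ⟨fun d hd c => hn c c.2 d hd⟩
  obtain ⟨g, hg⟩ := Clifford.exists_conjFun_eq_of_constituent χ.2 (isIrr_pullSub hNG θ)
    (isIrr_pullSub hNG φ)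
    (by rw [classInner_pullSub hNG (Chars.irr_isCharacter χ)]; exact_mod_cast hθ)
    (by rw [classInner_pullSub hNG (Chars.irr_isCharacter χ)]; exact_mod_cast hφ)
  refine ⟨(g : Γ)⁻¹, G.inv_mem g.2, fun n n' hn' => ?_⟩
  have h := congrFun hg ⟨⟨n', hNG n'.2⟩, n'.2⟩
  refine Eq.trans h.symm ?_
  show (θ : N → ℂ) _ = _
  exact congrArg (θ : N → ℂ) (Subtype.ext (by
    show (g : Γ) * n' * (g : Γ)⁻¹ = n
    rw [hn']; simp [mul_assoc]))

end Cfsg.Agent.Lib.Glauberman
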