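import Mathlib
import Cfsg.Agent.Lib.Glauberman.Bridge
import Cfsg.Agent.Lib.Clifford.Gallagher
import Cfsg.Agent.Lib.Clifford.CharExtension
import Cfsg.Agent.Lib.Clifford.LinearExtension
import Cfsg.Agent.Lib.PowMap.Basic
import Cfsg.Agent.Lib.GaloisPos.Basic

/-!
# Canonical extensions and a coset of a normal subgroup of coprime index
-/

set_option autoImplicit false

namespace Cfsg.Agent.Lib.Glauberman

open Cfsg
open Cfsg.Agent.Lib
open scoped ComplexConjugate

variable {Γ : Type*} [Group Γ] [Finite Γ] {G C : Subgroup Γ}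

/-- Averaging a class function over the coset `G x` reduces to the fixed points of `x`. -/
theorem coset_sum [Fintype G] [Fintype C] [G.Normal] {x : Γ}
    (hx : (orderOf x).Coprime (Nat.card G)) (hC : C = G ⊓ Subgroup.centralizer ({x} : Set Γ))
    {F : Γ → ℂ} (hF : Cfsg.IsClassFunction Γ F) :
    (Nat.card G : ℂ) * ∑ c : C, F ((c : Γ) * x) = (Nat.card C : ℂ) * ∑ g : G, F ((g : Γ) * x) := by
  classical
  have hcG : ∀ c : C, (c : Γ) ∈ G := fun c => (hC.le c.2).1
  have hcx : ∀ c : C, Commute (c : Γ) x := fun c =>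
    Subgroup.mem_centralizer_singleton_iff.1 (hC.le c.2).2
  obtain ⟨m, hm1, hm2⟩ : ∃ m : ℕ, m ≡ 1 [MOD orderOf x] ∧ m ≡ 0 [MOD Nat.card G] :=
    ⟨_, (Nat.chineseRemainder hx 1 0).2.1, (Nat.chineseRemainder hx 1 0).2.2⟩
  have hpow : ∀ c : C, ((c : Γ) * x) ^ m = x := fun c => by
    rw [(hcx c).mul_pow]
    have h1 : (c : Γ) ^ m = 1 := by
      obtain ⟨k, hk⟩ := Nat.modEq_zero_iff_dvd.1 hm2
      have h2 : (c : Γ) ^ Nat.card G = 1 :=
        congrArg Subtype.val (pow_card_eq_one' (x := (⟨c, hcG c⟩ : G)))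
      rw [hk, pow_mul, h2, one_pow]
    have h3 : x ^ m = x := by
      conv_rhs => rw [← pow_one x]
      exact pow_eq_pow_iff_modEq.2 hm1
    rw [h1, h3, one_mul]
  let Φ : G × C → G := fun p => ⟨(p.1 : Γ) * ((p.2 : Γ) * x) * (p.1 : Γ)⁻¹ * x⁻¹, by
    have h : (p.1 : Γ) * ((p.2 : Γ) * x) * (p.1 : Γ)⁻¹ * x⁻¹ =
        (p.1 : Γ) * (p.2 : Γ) * (x * (p.1 : Γ)⁻¹ * x⁻¹) := by group
    rw [h]
    exact G.mul_mem (G.mul_mem p.1.2 (hcG p.2))
      (‹G.Normal›.conj_mem _ (G.inv_mem p.1.2) x)⟩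
  have hΦ : ∀ p, (Φ p : Γ) * x = (p.1 : Γ) * ((p.2 : Γ) * x) * (p.1 : Γ)⁻¹ := fun p => by
    simp [Φ]
  have hfib : ∀ y : G, (Finset.univ.filter fun p => Φ p = y).card ≤ Fintype.card C := by
    intro y
    rcases (Finset.univ.filter fun p => Φ p = y).eq_empty_or_nonempty with h | ⟨q, hq⟩
    · rw [h]; exact Nat.zero_le _
    have hqy := (Finset.mem_filter.1 hq).2
    have hmem : ∀ p ∈ (Finset.univ.filter fun p => Φ p = y), (q.1 : Γ)⁻¹ * p.1 ∈ C := by
      intro p hp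
      have e : (p.1 : Γ) * ((p.2 : Γ) * x) * (p.1 : Γ)⁻¹ =
          (q.1 : Γ) * ((q.2 : Γ) * x) * (q.1 : Γ)⁻¹ := by
        rw [← hΦ, ← hΦ, (Finset.mem_filter.1 hp).2, hqy]
      have e2 := congrArg (· ^ m) e
      simp only [conj_pow, hpow] at e2
      refine hC.ge ⟨G.mul_mem (G.inv_mem q.1.2) p.1.2, Subgroup.mem_centralizer_singleton_iff.2 ?_⟩
      calc (q.1 : Γ)⁻¹ * p.1 * x = (q.1 : Γ)⁻¹ * ((p.1 : Γ) * x * (p.1 : Γ)⁻¹) * p.1 := by group
        _ = (q.1 : Γ)⁻¹ * ((q.1 : Γ) * x * (q.1 : Γ)⁻¹) * p.1 := by rw [e2]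
        _ = x * ((q.1 : Γ)⁻¹ * p.1) := by group
    let f : (p : G × C) → p ∈ (Finset.univ.filter fun p => Φ p = y) → C :=
      fun p hp => ⟨(q.1 : Γ)⁻¹ * p.1, hmem p hp⟩
    rw [← Finset.card_univ]
    refine Finset.card_le_card_of_injOn
      (fun p => if h : p ∈ (Finset.univ.filter fun p => Φ p = y) then f p h else 1)
      (fun _ _ => Finset.mem_univ _) fun p hp p' hp' e => ?_
    simp only [Finset.mem_coe] at hp hp'
    beta_reduce at e
    rw [dif_pos hp, dif_pos hp'] at e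
    have e1 : p.1 = p'.1 := Subtype.ext (mul_left_cancel (congrArg Subtype.val e))
    refine Prod.ext e1 (Subtype.ext ?_)
    have e2 : (p.1 : Γ) * ((p.2 : Γ) * x) * (p.1 : Γ)⁻¹ =
        (p'.1 : Γ) * ((p'.2 : Γ) * x) * (p'.1 : Γ)⁻¹ := by
      rw [← hΦ, ← hΦ, (Finset.mem_filter.1 hp).2, (Finset.mem_filter.1 hp').2]
    rw [e1] at e2
    exact mul_right_cancel (mul_left_cancel (mul_right_cancel e2))
  have hsum := Finset.card_eq_sum_card_fiberwise (f := Φ) (s := Finset.univ) (t := Finset.univ)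
    (fun p _ => Finset.mem_univ _)
  have heq : ∀ y : G, (Finset.univ.filter fun p => Φ p = y).card = Fintype.card C := by
    intro y
    refine (Finset.sum_eq_sum_iff_of_le (fun y _ => hfib y)).1 ?_ y (Finset.mem_univ _)
    rw [← hsum]
    simp [mul_comm]
  calc (Nat.card G : ℂ) * ∑ c : C, F ((c : Γ) * x) = ∑ p : G × C, F ((Φ p : Γ) * x) := by
        rw [Fintype.sum_prod_type]
        simp only [hΦ, Chars.isClassFunction_apply_eq hF (isConj_iff.2 ⟨_, rfl⟩ : IsConj _ _)]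
        simp [Nat.card_eq_fintype_card]
    _ = ∑ y : G, ∑ p ∈ Finset.univ.filter (fun p => Φ p = y), F ((Φ p : Γ) * x) :=
        (Finset.sum_fiberwise _ _ _).symm
    _ = ∑ y : G, (Fintype.card C : ℂ) * F ((y : Γ) * x) := by
        refine Finset.sum_congr rfl fun y _ => ?_
        rw [Finset.sum_congr rfl fun p hp => by rw [(Finset.mem_filter.1 hp).2], Finset.sum_const,
          heq, nsmul_eq_mul]
    _ = _ := by rw [← Finset.mul_sum, Nat.card_eq_fintype_card]

/-- Orthogonality on cosets for characters with irreducible restrictions. -/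
theorem coset_orth [Fintype G] [G.Normal] {χh χh' : IrrCharacter Γ} {χ χ' : IrrCharacter G}
    (h : ∀ g : G, (χh : Γ → ℂ) g = (χ : G → ℂ) g) (h' : ∀ g : G, (χh' : Γ → ℂ) g = (χ' : G → ℂ) g)
    (hsame : χ = χ' → χh = χh') [Decidable (χ = χ')] (y : Γ) :
    (Nat.card G : ℂ)⁻¹ * ∑ g : G, (χh : Γ → ℂ) ((g : Γ) * y) * conj ((χh' : Γ → ℂ) ((g : Γ) * y))
      = if χ = χ' then 1 else 0 := by
  classical
  haveI : Fintype Γ := Fintype.ofFinite Γ
  haveI : Fintype (Γ ⧸ G) := Fintype.ofFinite _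
  have hres' : Clifford.resFun G (χh' : Γ → ℂ) = (χ' : G → ℂ) := funext h'
  obtain ⟨hirr, hinj, -⟩ := Clifford.gallagher χh'.2 (hres' ▸ χ'.2)
  let γ : Γ → ℂ := fun z => (χh : Γ → ℂ) z * conj ((χh' : Γ → ℂ) z)
  have hγ : Cfsg.IsClassFunction Γ γ := fun z k => by
    show _ * _ = _ * _
    rw [Chars.irr_isClassFunction χh z k, Chars.irr_isClassFunction χh' z k]
  have key := congrFun (Clifford.cosetAvg_eq_sum (N := G) hγ) y
  refine Eq.trans key ?_
  let one' : IrrCharacter (Γ ⧸ G) := ⟨fun _ => 1, Chars.isIrrCharacter_one⟩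
  have hone : χh = χh' → (χh : Γ → ℂ) = (χh' : Γ → ℂ) * (Chars.inflate G one' : Γ → ℂ) := fun e => by
    rw [e]; funext z
    show _ = _ * (1 : ℂ)
    rw [mul_one]
  have hval : ∀ β : IrrCharacter (Γ ⧸ G), classInner γ (Chars.inflate G β : Γ → ℂ) =
      if χ = χ' ∧ β = one' then 1 else 0 := by
    intro β
    have e1 : classInner γ (Chars.inflate G β : Γ → ℂ) =
        classInner (χh : Γ → ℂ) ((χh' : Γ → ℂ) * (Chars.inflate G β : Γ → ℂ)) := by
      unfold classInner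
      refine congrArg _ (Finset.sum_congr rfl fun z _ => ?_)
      simp only [γ, Pi.mul_apply, map_mul]
      ring
    rw [e1]
    by_cases hb : (χh : Γ → ℂ) = (χh' : Γ → ℂ) * (Chars.inflate G β : Γ → ℂ)
    · rw [← hb, Chars.classInner_irr_self]
      have hχ : χ = χ' := by
        have e2 : (χ : G → ℂ) = ((β : Γ ⧸ G → ℂ) 1) • (χ' : G → ℂ) := funext fun g => by
          rw [← h g, congrFun hb, Pi.mul_apply, h' g]
          show _ * (β : Γ ⧸ G → ℂ) ((g : Γ) : Γ ⧸ G) = _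
          rw [(QuotientGroup.eq_one_iff (g : Γ)).2 g.2]
          simp [mul_comm]
        by_contra hne
        have h3 : classInner (χ : G → ℂ) (χ' : G → ℂ) = 0 := Chars.classInner_irr_of_ne hne
        rw [e2, Chars.classInner_smul_left, Chars.classInner_irr_self, mul_one] at h3
        exact Chars.irr_apply_one_ne_zero β h3
      rw [if_pos ⟨hχ, hinj (hb.symm.trans (hone (hsame hχ)))⟩]
    · rw [Chars.classInner_irr_of_ne (χ := χh) (ψ := ⟨_, hirr β⟩) fun e =>
        hb (congrArg Subtype.val e), if_neg]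
      rintro ⟨hχ, rfl⟩
      exact hb (hone (hsame hχ))
  simp only [Finset.sum_apply, Pi.smul_apply, smul_eq_mul, hval, ite_mul, one_mul, zero_mul]
  by_cases hχ : χ = χ'
  · simp only [hχ, true_and, Finset.sum_ite_eq', Finset.mem_univ, if_true]
    rfl
  · simp [hχ]

/-- The determinantal character is invariant with the character. -/
theorem detChar_invariant [G.Normal] {χ : G → ℂ} (hχ : IsIrrCharacter G χ)
    (hinv : ∀ (y : Γ) (g : G), χ ⟨y * g * y⁻¹, ‹G.Normal›.conj_mem g g.2 y⟩ = χ g) (y : Γ) (g : G) :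
    Cfsg.detChar χ ⟨y * g * y⁻¹, ‹G.Normal›.conj_mem g g.2 y⟩ = Cfsg.detChar χ g := by
  obtain ⟨k, ρ, hρ, rfl⟩ := hχ
  haveI := hρ
  rw [Clifford.detChar_character ρ ⟨k, ρ, rfl⟩]
  obtain ⟨e⟩ := Clifford.equiv_of_char_eq ρ (ρ.comp (MulAut.conjNormal y).toMonoidHom) (by
    funext n
    refine (hinv y n).symm.trans ?_
    exact congrArg (LinearMap.trace ℂ _) (congrArg ρ (Subtype.ext rfl)))
  refine Eq.trans ?_ (Clifford.det_equiv e g).symm
  exact congrArg (LinearMap.det ∘ ρ) (Subtype.ext rfl)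

/-- An invariant character has a canonical extension. -/
theorem exists_canonical [G.Normal] (hcop : G.index.Coprime (Nat.card G)) (χ : IrrCharacter G)
    (hinv : ∀ (y : Γ) (g : G), (χ : G → ℂ) ⟨y * g * y⁻¹, ‹G.Normal›.conj_mem g g.2 y⟩ =
      (χ : G → ℂ) g) :
    ∃ χh : IrrCharacter Γ, (∀ g : G, (χh : Γ → ℂ) g = (χ : G → ℂ) g) ∧
      (detOrder (χh : Γ → ℂ)).Coprime G.index := by
  obtain ⟨f, hf⟩ := Clifford.exists_detHom χ.2
  have hfinv : ∀ (y : Γ) (g : G), f ⟨y * g * y⁻¹, ‹G.Normal›.conj_mem g g.2 y⟩ = f g := fun y g => by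
    apply Units.ext
    have := detChar_invariant χ.2 hinv y g
    rwa [hf] at this
  have hof : (orderOf f).Coprime G.index := by
    refine (hcop.symm).coprime_dvd_left (orderOf_dvd_of_pow_eq_one ?_)
    ext g
    rw [MonoidHom.pow_apply, ← map_pow, pow_card_eq_one', map_one, MonoidHom.one_apply]
  obtain ⟨μ, hμ, hμo⟩ := Clifford.exists_linear_extension_coprime f hfinv hof.symm
  obtain ⟨d, hd0, hd, hdvd⟩ := Chars.irr_degree_dvd_card χ
  obtain ⟨ψ, hψ, hψG, hψd⟩ := Clifford.exists_char_extension χ.2 hinv hd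
    (hcop.coprime_dvd_right hdvd) μ (fun n => by rw [hμ, hf])
  refine ⟨⟨ψ, hψ⟩, hψG, ?_⟩
  show (orderOf (detChar ψ)).Coprime G.index
  rw [hψd, Clifford.orderOf_hom_coe, hμo]
  exact hof

/-- The canonical extension is unique. -/
theorem canonical_unique [G.Normal] (hcop : G.index.Coprime (Nat.card G)) {χ : IrrCharacter G}
    {χh χh' : IrrCharacter Γ} (h : ∀ g : G, (χh : Γ → ℂ) g = (χ : G → ℂ) g)
    (h' : ∀ g : G, (χh' : Γ → ℂ) g = (χ : G → ℂ) g)
    (hd : (detOrder (χh : Γ → ℂ)).Coprime G.index)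
    (hd' : (detOrder (χh' : Γ → ℂ)).Coprime G.index) : χh' = χh := by
  obtain ⟨d, hd0, hdeg, hdvd⟩ := Chars.irr_degree_dvd_card χ
  obtain ⟨f, hf⟩ := Clifford.exists_detHom χh.2
  obtain ⟨f', hf'⟩ := Clifford.exists_detHom χh'.2
  refine Subtype.ext (Clifford.char_extension_unique χ.2 hdeg (hcop.coprime_dvd_right hdvd) χh.2
    χh'.2 h h' ?_)
  rw [hf, hf']
  suffices f' = f by rw [this]
  refine Clifford.linear_extension_unique (N := G) f' f (fun n => Units.ext ?_) ?_ ?_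
  · have e := Clifford.detChar_restrict χh.2 χ.2 h n
    have e' := Clifford.detChar_restrict χh'.2 χ.2 h' n
    rw [hf] at e
    rw [hf'] at e'
    exact e'.symm.trans e
  · rw [← Clifford.orderOf_hom_coe, ← hf']
    exact hd'.symm
  · rw [← Clifford.orderOf_hom_coe, ← hf]
    exact hd.symm

/-- The canonical extension is fixed by the power maps that fix `G` pointwise. -/
theorem canonical_pow [G.Normal] (hcop : G.index.Coprime (Nat.card G)) {χ : IrrCharacter G}
    {χh : IrrCharacter Γ} (h : ∀ g : G, (χh : Γ → ℂ) g = (χ : G → ℂ) g)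
    (hd : (detOrder (χh : Γ → ℂ)).Coprime G.index) {k : ℕ} (hk : k.Coprime (Nat.card Γ))
    (hkG : k ≡ 1 [MOD Nat.card G]) (y : Γ) : (χh : Γ → ℂ) (y ^ k) = (χh : Γ → ℂ) y := by
  obtain ⟨σ, hσ⟩ := GaloisChar.exists_ringEquiv_pow (m := Nat.card Γ) Nat.card_pos hk
  obtain ⟨f, hf⟩ := Clifford.exists_detHom χh.2
  have hfk : f ^ k = f := by
    refine Eq.trans ?_ (pow_one f)
    refine (pow_eq_pow_iff_modEq (x := f)).2 (hkG.of_dvd ?_)
    have h1 : orderOf f ∣ Nat.card G * G.index := orderOf_dvd_of_pow_eq_one (MonoidHom.ext fun z => by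
      rw [G.card_mul_index, MonoidHom.pow_apply, ← map_pow, pow_card_eq_one', map_one,
        MonoidHom.one_apply])
    refine Nat.Coprime.dvd_of_dvd_mul_right ?_ h1
    rw [← Clifford.orderOf_hom_coe, ← hf]
    exact hd
  have hpow : ∀ g : G, (g : Γ) ^ k = g := fun g => by
    conv_rhs => rw [← pow_one (g : Γ)]
    exact pow_eq_pow_iff_modEq.2
      (hkG.of_dvd (Subgroup.orderOf_coe g ▸ orderOf_dvd_natCard g))
  have hdet : detChar (PowMap.powIrr hk χh : Γ → ℂ) = detChar (χh : Γ → ℂ) := by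
    obtain ⟨n, ρ, hρ, hρχ⟩ := χh.2
    haveI := hρ
    have e1 : (PowMap.powIrr hk χh : Γ → ℂ) = (GaloisChar.galRep (σ : ℂ →+* ℂ) ρ).character := by
      funext z
      rw [GaloisChar.galRep_character, PowMap.powIrr_apply, hρχ]
      exact PowMap.char_pow_eq_gal (σ : ℂ →+* ℂ) hσ (Chars.irr_isCharacter χh) z
    have hf2 : ∀ z, LinearMap.det (ρ z) = (f z : ℂ) := fun z => by
      have := congrFun hf z
      rw [← hρχ, Clifford.detChar_character ρ ⟨n, ρ, rfl⟩] at this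
      exact this
    obtain ⟨n', ρ', hρ', hρ'χ⟩ := (PowMap.powIrr hk χh).2
    haveI := hρ'
    obtain ⟨e⟩ := Clifford.equiv_of_char_eq ρ' (GaloisChar.galRep (σ : ℂ →+* ℂ) ρ)
      (hρ'χ.trans e1)
    rw [← hρ'χ, Clifford.detChar_character _ ⟨n', _, rfl⟩, hf]
    funext z
    rw [Clifford.det_equiv e z]
    show LinearMap.det (Matrix.toLin' ((LinearMap.toMatrix' (ρ z)).map (σ : ℂ →+* ℂ))) = _
    rw [LinearMap.det_toLin', ← RingHom.mapMatrix_apply, ← RingHom.map_det,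
      LinearMap.det_toMatrix', hf2]
    show σ (f z : ℂ) = _
    rw [hσ _ (by rw [← Units.val_pow_eq_pow_val, ← map_pow, pow_card_eq_one', map_one,
      Units.val_one]), ← Units.val_pow_eq_pow_val, ← MonoidHom.pow_apply, hfk]
  have e := canonical_unique hcop h (χh' := PowMap.powIrr hk χh)
    (fun g => by rw [PowMap.powIrr_apply, hpow]; exact h g) hd (by
      show (orderOf (detChar _)).Coprime _
      rw [hdet]; exact hd)
  exact congrFun (congrArg Subtype.val e) y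

end Cfsg.Agent.Lib.Glauberman
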