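import Mathlib
import Cfsg.Agent.Lib.Glauberman.Residue
import Cfsg.Agent.Lib.Blocks.BlockOrth
import Cfsg.Agent.Lib.Chars.Integral
import Cfsg.Agent.Lib.Chars.Completeness

/-!
# The class functions of a p'-group in characteristic p

`idemVal M χ` is the reduction of the primitive idempotent `χ(1) χ(g) / #H`; `hatVal M χ u` the
value of the central character of `χ` on the class function `u`.
-/

set_option autoImplicit false

namespace Cfsg.Agent.Lib.Glauberman

open Cfsg
open Cfsg.Agent.Lib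
open Cfsg.Agent.Lib.Blocks
open scoped ComplexConjugate

universe u

variable {H : Type u} [Group H]

/-- The coefficient function of the idempotent of `χ`, reduced. -/
noncomputable def idemVal (M : Ideal AlgInt) [M.IsPrime] (χ : H → ℂ) (g : H) : Residue M :=
  red M (χ 1 * χ g / (Nat.card H : ℂ))

/-- The central character of `χ` at the function `u`, reduced. -/
noncomputable def hatVal (M : Ideal AlgInt) [M.IsPrime] [Fintype H] (χ : H → ℂ)
    (u : H → Residue M) : Residue M :=
  ∑ g : H, u g * red M (conj (χ g) / χ 1)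

variable {M : Ideal AlgInt} [M.IsPrime] {p : ℕ} [Finite H]

/-- Membership of the basic quantities in the local ring. -/
theorem val_mem (χ : IrrCharacter H) (g : H) : (χ : H → ℂ) g ∈ localRing M :=
  isIntegral_mem_localRing (Chars.irr_isIntegral χ g)

theorem conj_val_mem (χ : IrrCharacter H) (g : H) : conj ((χ : H → ℂ) g) ∈ localRing M :=
  isIntegral_mem_localRing (Chars.isIntegral_conj (Chars.irr_isIntegral χ g))

theorem conj_div_mem (hM : IsPModular p M) (hH : ¬ p ∣ Nat.card H) (χ : IrrCharacter H) (g : H) :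
    conj ((χ : H → ℂ) g) / (χ : H → ℂ) 1 ∈ localRing M := by
  obtain ⟨n, _, hn, hnd⟩ := Chars.irr_degree_dvd_card χ
  rw [hn, div_eq_mul_inv]
  exact mul_mem (conj_val_mem χ g) (inv_natCast_mem_localRing hM fun h => hH (h.trans hnd))

theorem idem_mem (hM : IsPModular p M) (hH : ¬ p ∣ Nat.card H) (χ : IrrCharacter H) (g : H) :
    (χ : H → ℂ) 1 * (χ : H → ℂ) g / (Nat.card H : ℂ) ∈ localRing M := by
  rw [div_eq_mul_inv]
  exact mul_mem (mul_mem (val_mem χ 1) (val_mem χ g)) (inv_natCast_mem_localRing hM hH)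

theorem idemVal_class (χ : IrrCharacter H) (g h : H) :
    idemVal M (χ : H → ℂ) (h * g * h⁻¹) = idemVal M (χ : H → ℂ) g := by
  simp only [idemVal, Chars.irr_isClassFunction χ g h]

theorem idemVal_one_ne_zero (hM : IsPModular p M) (hH : ¬ p ∣ Nat.card H) (χ : IrrCharacter H) :
    idemVal M (χ : H → ℂ) 1 ≠ 0 := by
  obtain ⟨n, _, hn, hnd⟩ := Chars.irr_degree_dvd_card χ
  intro h0
  have h1 : red M ((χ : H → ℂ) 1 * (χ : H → ℂ) 1 / (Nat.card H : ℂ)) * red M (Nat.card H : ℂ)
      = red M ((n * n : ℕ) : ℂ) := by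
    rw [← red_mul (idem_mem hM hH χ 1) (natCast_mem_localRing _),
      div_mul_cancel₀ _ (Nat.cast_ne_zero.2 Nat.card_pos.ne'), hn, Nat.cast_mul]
  have h0' : red M ((χ : H → ℂ) 1 * (χ : H → ℂ) 1 / (Nat.card H : ℂ)) = 0 := h0
  rw [h0', zero_mul, red_natCast, eq_comm, natCast_red_eq_zero hM, Nat.Prime.dvd_mul hM.1,
    or_self] at h1
  exact hH (h1.trans hnd)

variable [Fintype H]

theorem idem_conv_complex (χ ψ : IrrCharacter H) [Decidable (χ = ψ)] (g : H) :
    ∑ x : H, ((χ : H → ℂ) 1 * (χ : H → ℂ) x / (Nat.card H : ℂ)) *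
        ((ψ : H → ℂ) 1 * (ψ : H → ℂ) (x⁻¹ * g) / (Nat.card H : ℂ))
      = if χ = ψ then (χ : H → ℂ) 1 * (χ : H → ℂ) g / (Nat.card H : ℂ) else 0 := by
  have hN : (Nat.card H : ℂ) ≠ 0 := Nat.cast_ne_zero.2 Nat.card_pos.ne'
  have hψ := Chars.irr_apply_one_ne_zero ψ
  have hs : ∑ x : H, (χ : H → ℂ) x * (ψ : H → ℂ) (x⁻¹ * g) =
      (if χ = ψ then (Nat.card H : ℂ) else 0) * ((ψ : H → ℂ) g / (ψ : H → ℂ) 1) := by
    have h1 : ∀ v : H, ∑ x : H, (χ : H → ℂ) x * (ψ : H → ℂ) (x⁻¹ * g) =
        ∑ x : H, (χ : H → ℂ) x * (ψ : H → ℂ) (g * (v * x⁻¹ * v⁻¹)) := by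
      intro v
      refine Fintype.sum_equiv (MulAut.conj v⁻¹).toEquiv _ _ fun x => ?_
      rw [MulEquiv.toEquiv_eq_coe, EquivLike.coe_coe, MulAut.conj_apply,
        Chars.irr_isClassFunction χ x v⁻¹, ← Chars.irr_isClassFunction ψ (x⁻¹ * g) g]
      congr 2
      group
    have h2 : (Nat.card H : ℂ) * ∑ x : H, (χ : H → ℂ) x * (ψ : H → ℂ) (x⁻¹ * g) =
        ∑ x : H, (χ : H → ℂ) x *
          ((Nat.card H : ℂ) * ((ψ : H → ℂ) g * (ψ : H → ℂ) x⁻¹) / (ψ : H → ℂ) 1) := by
      calc _ = ∑ v : H, ∑ x : H, (χ : H → ℂ) x * (ψ : H → ℂ) (g * (v * x⁻¹ * v⁻¹)) := by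
            rw [← Finset.sum_congr rfl (fun v _ => h1 v), Finset.sum_const, Finset.card_univ,
              Nat.card_eq_fintype_card, nsmul_eq_mul]
        _ = _ := by
            rw [Finset.sum_comm]
            refine Finset.sum_congr rfl fun x _ => ?_
            rw [← Finset.mul_sum, sum_irr_mul_conj]
    have h3 : ∑ x : H, (χ : H → ℂ) x * (ψ : H → ℂ) x⁻¹ = if χ = ψ then (Nat.card H : ℂ) else 0 := by
      have h4 : ∑ x : H, (χ : H → ℂ) x * (ψ : H → ℂ) x⁻¹ =
          (Nat.card H : ℂ) * classInner (χ : H → ℂ) (ψ : H → ℂ) := by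
        rw [classInner, ← mul_assoc, mul_inv_cancel₀ hN, one_mul]
        exact Finset.sum_congr rfl fun x _ => by rw [Chars.irr_inv]
      rw [h4]
      by_cases h : χ = ψ
      · subst h; rw [Chars.classInner_irr_self, mul_one, if_pos rfl]
      · rw [Chars.classInner_irr_of_ne h, mul_zero, if_neg h]
    rw [← h3, Finset.sum_mul]
    refine mul_left_cancel₀ hN ?_
    rw [h2, Finset.mul_sum]
    refine Finset.sum_congr rfl fun x _ => ?_
    field_simp
  calc _ = ((χ : H → ℂ) 1 * (ψ : H → ℂ) 1 / ((Nat.card H : ℂ) * (Nat.card H : ℂ))) *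
        ∑ x : H, (χ : H → ℂ) x * (ψ : H → ℂ) (x⁻¹ * g) := by
        rw [Finset.mul_sum]
        refine Finset.sum_congr rfl fun x _ => ?_
        field_simp
    _ = _ := by
        rw [hs]
        by_cases h : χ = ψ
        · subst h; simp only [if_true]; field_simp
        · simp [h]

theorem idemVal_conv (hM : IsPModular p M) (hH : ¬ p ∣ Nat.card H) (χ ψ : IrrCharacter H)
    [Decidable (χ = ψ)] (g : H) :
    ∑ x : H, idemVal M (χ : H → ℂ) x * idemVal M (ψ : H → ℂ) (x⁻¹ * g)
      = if χ = ψ then idemVal M (χ : H → ℂ) g else 0 := by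
  have h := congrArg (red M) (idem_conv_complex χ ψ g)
  rw [red_sum _ (fun x _ => mul_mem (idem_mem hM hH χ x) (idem_mem hM hH ψ _))] at h
  rw [Finset.sum_congr rfl (fun x _ => red_mul (idem_mem hM hH χ x) (idem_mem hM hH ψ _))] at h
  refine h.trans ?_
  split_ifs <;> simp [idemVal]

theorem sum_idemVal (hM : IsPModular p M) (hH : ¬ p ∣ Nat.card H) [DecidableEq H] (g : H) :
    ∑ χ : IrrCharacter H, idemVal M (χ : H → ℂ) g = if g = 1 then 1 else 0 := by
  unfold idemVal
  rw [← red_sum _ (fun χ _ => idem_mem hM hH χ g), ← Finset.sum_div, Chars.sum_degree_mul_irr]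
  split_ifs
  · rw [div_self (Nat.cast_ne_zero.2 Nat.card_pos.ne'), red_one]
  · rw [zero_div, red_zero]

theorem hatVal_idemVal (hM : IsPModular p M) (hH : ¬ p ∣ Nat.card H) (χ ψ : IrrCharacter H)
    [Decidable (χ = ψ)] :
    hatVal M (χ : H → ℂ) (idemVal M (ψ : H → ℂ)) = if χ = ψ then 1 else 0 := by
  unfold hatVal idemVal
  rw [← Finset.sum_congr rfl (fun g _ => red_mul (idem_mem hM hH ψ g) (conj_div_mem hM hH χ g)),
    ← red_sum _ (fun g _ => mul_mem (idem_mem hM hH ψ g) (conj_div_mem hM hH χ g))]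
  have : ∑ g : H, (ψ : H → ℂ) 1 * (ψ : H → ℂ) g / (Nat.card H : ℂ) *
      (conj ((χ : H → ℂ) g) / (χ : H → ℂ) 1) =
      (ψ : H → ℂ) 1 / (χ : H → ℂ) 1 * classInner (ψ : H → ℂ) (χ : H → ℂ) := by
    rw [classInner, ← mul_assoc, Finset.mul_sum]
    refine Finset.sum_congr rfl fun g _ => ?_
    ring
  rw [this]
  split_ifs with h
  · subst h
    rw [Chars.classInner_irr_self, mul_one, div_self (Chars.irr_apply_one_ne_zero χ), red_one]
  · rw [Chars.classInner_irr_of_ne (Ne.symm h), mul_zero, red_zero]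

theorem hatVal_sum {ι : Type*} (χ : H → ℂ) (s : Finset ι) (u : ι → H → Residue M) :
    hatVal M χ (fun g => ∑ i ∈ s, u i g) = ∑ i ∈ s, hatVal M χ (u i) := by
  unfold hatVal
  rw [Finset.sum_comm]
  exact Finset.sum_congr rfl fun g _ => Finset.sum_mul _ _ _

theorem hatVal_const_mul (χ : H → ℂ) (c : Residue M) (u : H → Residue M) :
    hatVal M χ (fun g => c * u g) = c * hatVal M χ u := by
  unfold hatVal
  rw [Finset.mul_sum]
  exact Finset.sum_congr rfl fun g _ => mul_assoc _ _ _

theorem hatVal_delta (χ : IrrCharacter H) [DecidableEq H] :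
    hatVal M (χ : H → ℂ) (fun g => if g = 1 then 1 else 0) = 1 := by
  unfold hatVal
  simp only
  rw [Finset.sum_eq_single (1 : H) (fun g _ hg => by rw [if_neg hg, zero_mul])
    (fun h => absurd (Finset.mem_univ _) h), if_pos rfl, one_mul]
  obtain ⟨n, hn0, hn, -⟩ := Chars.irr_degree_dvd_card χ
  rw [hn, Complex.conj_natCast, div_self (Nat.cast_ne_zero.2 hn0.ne'), red_one]

/-- `hatVal` is multiplicative on the convolution with a class function. -/
theorem hatVal_conv (hM : IsPModular p M) (hH : ¬ p ∣ Nat.card H) (χ : IrrCharacter H)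
    (u v : H → Residue M) (hv : ∀ g h : H, v (h * g * h⁻¹) = v g) :
    hatVal M (χ : H → ℂ) (fun g => ∑ x : H, u x * v (x⁻¹ * g)) =
      hatVal M (χ : H → ℂ) u * hatVal M (χ : H → ℂ) v := by
  set w : H → Residue M := fun g => red M (conj ((χ : H → ℂ) g) / (χ : H → ℂ) 1) with hw
  have hN : ((Nat.card H : ℕ) : Residue M) ≠ 0 := fun h => hH ((natCast_red_eq_zero hM _).1 h)
  -- the averaged identity
  have havg : ∀ x y : H, ∑ z : H, w (x * (z * y * z⁻¹)) = (Nat.card H : Residue M) * (w x * w y) := by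
    intro x y
    simp only [hw]
    rw [← red_sum _ (fun z _ => conj_div_mem hM hH χ _),
      ← red_mul (conj_div_mem hM hH χ x) (conj_div_mem hM hH χ y), ← red_natCast,
      ← red_mul (natCast_mem_localRing _) (mul_mem (conj_div_mem hM hH χ x) (conj_div_mem hM hH χ y)),
      ← Finset.sum_div, ← map_sum, sum_irr_mul_conj]
    congr 1
    obtain ⟨n, hn0, hn, -⟩ := Chars.irr_degree_dvd_card χ
    rw [hn, map_div₀, map_mul, map_mul, Complex.conj_natCast, Complex.conj_natCast]
    field_simp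
  have hinner : ∀ x : H, ∑ y : H, v y * w (x * y) = w x * ∑ y : H, v y * w y := by
    intro x
    refine mul_left_cancel₀ hN ?_
    calc (Nat.card H : Residue M) * ∑ y : H, v y * w (x * y)
        = ∑ z : H, ∑ y : H, v y * w (x * y) := by
          rw [Finset.sum_const, Finset.card_univ, Nat.card_eq_fintype_card, nsmul_eq_mul]
      _ = ∑ z : H, ∑ y : H, v y * w (x * (z * y * z⁻¹)) := by
          refine Finset.sum_congr rfl fun z _ => ?_
          refine (Fintype.sum_equiv (MulAut.conj z).toEquiv _ _ fun y => ?_).symm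
          rw [MulEquiv.toEquiv_eq_coe, EquivLike.coe_coe, MulAut.conj_apply, hv]
      _ = _ := by
          rw [Finset.sum_comm]
          simp only [← Finset.mul_sum, havg]
          rw [Finset.mul_sum, Finset.mul_sum]
          exact Finset.sum_congr rfl fun y _ => by ring
  unfold hatVal
  simp only [Finset.sum_mul]
  rw [Finset.sum_comm]
  refine Finset.sum_congr rfl fun x _ => ?_
  rw [show u x * w x * ∑ y : H, v y * w y = u x * (w x * ∑ y : H, v y * w y) by ring, ← hinner,
    Finset.mul_sum]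
  refine (Fintype.sum_equiv (Equiv.mulLeft x) _ _ fun y => ?_).symm
  show u x * (v y * w (x * y)) = u x * v (x⁻¹ * (x * y)) * w (x * y)
  rw [inv_mul_cancel_left, mul_assoc]

/-- Fourier inversion for class functions with values in the residue field. -/
theorem eq_sum_hatVal (hM : IsPModular p M) (hH : ¬ p ∣ Nat.card H) (u : H → Residue M)
    (hu : ∀ g h : H, u (h * g * h⁻¹) = u g) (g : H) :
    u g = ∑ χ : IrrCharacter H, hatVal M (χ : H → ℂ) u * idemVal M (χ : H → ℂ) g := by
  classical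
  have hN0 : (Nat.card H : ℂ) ≠ 0 := Nat.cast_ne_zero.2 Nat.card_pos.ne'
  -- the kernel
  have hker : ∀ x : H, ∑ χ : IrrCharacter H,
      red M (conj ((χ : H → ℂ) x) / (χ : H → ℂ) 1) * idemVal M (χ : H → ℂ) g =
      red M ((∑ χ : IrrCharacter H, (χ : H → ℂ) g * conj ((χ : H → ℂ) x)) / (Nat.card H : ℂ)) := by
    intro x
    rw [Finset.sum_div, red_sum _ (fun χ _ => by
      rw [div_eq_mul_inv]
      exact mul_mem (mul_mem (val_mem χ g) (conj_val_mem χ x))
        (inv_natCast_mem_localRing hM hH))]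
    refine Finset.sum_congr rfl fun χ _ => ?_
    rw [idemVal, ← red_mul (conj_div_mem hM hH χ x) (idem_mem hM hH χ g)]
    congr 1
    have := Chars.irr_apply_one_ne_zero χ
    field_simp
  have hex : ∀ x : H,
      u x * red M ((∑ χ : IrrCharacter H, (χ : H → ℂ) g * conj ((χ : H → ℂ) x)) / (Nat.card H : ℂ)) =
      u g * red M ((∑ χ : IrrCharacter H, (χ : H → ℂ) g * conj ((χ : H → ℂ) x)) / (Nat.card H : ℂ)) := by
    intro x
    by_cases h : IsConj g x
    · obtain ⟨c, hc⟩ := isConj_iff.1 h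
      rw [← hc, hu]
    · rw [Chars.column_orthogonality_of_not_isConj h]; simp
  have htot : ∑ x : H, (∑ χ : IrrCharacter H, (χ : H → ℂ) g * conj ((χ : H → ℂ) x)) =
      (Nat.card H : ℂ) := by
    have h1 : ∀ χ : IrrCharacter H, ∑ x : H, conj ((χ : H → ℂ) x) =
        if χ = Chars.trivialIrr H then (Nat.card H : ℂ) else 0 := by
      intro χ
      have h2 : ∑ x : H, conj ((χ : H → ℂ) x) =
          (Nat.card H : ℂ) * classInner (Chars.trivialIrr H : H → ℂ) (χ : H → ℂ) := by
        rw [classInner, ← mul_assoc, mul_inv_cancel₀ hN0, one_mul]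
        exact Finset.sum_congr rfl fun x _ => (one_mul _).symm
      rw [h2]
      by_cases h : χ = Chars.trivialIrr H
      · subst h; rw [Chars.classInner_irr_self, mul_one, if_pos rfl]
      · rw [Chars.classInner_irr_of_ne (Ne.symm h), mul_zero, if_neg h]
    rw [Finset.sum_comm]
    simp only [← Finset.mul_sum, h1, mul_ite, mul_zero, Finset.sum_ite_eq', Finset.mem_univ, if_true]
    show (1 : ℂ) * _ = _
    rw [one_mul]
  symm
  unfold hatVal
  simp only [Finset.sum_mul, mul_assoc]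
  rw [Finset.sum_comm]
  simp only [← Finset.mul_sum, hker, hex]
  rw [← red_sum _ (fun x _ => by
      rw [Finset.sum_div]
      refine sum_mem fun χ _ => ?_
      rw [div_eq_mul_inv]
      exact mul_mem (mul_mem (val_mem χ g) (conj_val_mem χ x))
        (inv_natCast_mem_localRing hM hH)),
    ← Finset.sum_div, htot, div_self hN0, red_one, mul_one]

end Cfsg.Agent.Lib.Glauberman
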