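import Mathlib
import Cfsg.Agent.Lib.Glauberman.Defs
import Cfsg.Agent.Lib.Glauberman.Modular

/-!
# The Glauberman correspondence for an automorphism of order p

`s` normalises `G`, `s ^ p` centralises `G`, `p ∤ #G` and `C` is the centraliser of `s` in `G`.
-/

set_option autoImplicit false

namespace Cfsg.Agent.Lib.Glauberman

open Cfsg
open Cfsg.Agent.Lib
open Cfsg.Agent.Lib.Blocks
open scoped ComplexConjugate

variable {Γ : Type*} [Group Γ] [Finite Γ] {G C : Subgroup Γ} {p : ℕ} [Fact p.Prime] {s : Γ}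

/-- The permutation of the irreducible characters given by a normalising element. -/
noncomputable def irrPerm (hs : Normalises s G) : Equiv.Perm (IrrCharacter G) :=
  Equiv.ofBijective (fun χ => (exists_isConjBy hs χ).choose) (Finite.injective_iff_bijective.1
    fun χ ψ h => Subtype.ext (IsConjBy.eq_left hs (exists_isConjBy hs χ).choose_spec
      (by
        have h' : ((exists_isConjBy hs χ).choose : IrrCharacter G) = (exists_isConjBy hs ψ).choose := h
        rw [h']
        exact (exists_isConjBy hs ψ).choose_spec)))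

theorem irrPerm_spec (hs : Normalises s G) (χ : IrrCharacter G) :
    IsConjBy s (χ : G → ℂ) (irrPerm hs χ : G → ℂ) :=
  (exists_isConjBy hs χ).choose_spec

theorem irrPerm_pow_spec (hs : Normalises s G) (χ : IrrCharacter G) (n : ℕ) :
    IsConjBy (s ^ n) (χ : G → ℂ) ((irrPerm hs ^ n) χ : G → ℂ) := by
  induction n with
  | zero =>
    intro g g' h
    rw [pow_zero, one_mul, inv_one, mul_one] at h
    rw [pow_zero, Equiv.Perm.one_apply, Subtype.ext h]
  | succ n ih =>
    rw [pow_succ', pow_succ', Equiv.Perm.mul_apply]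
    refine IsConjBy.trans ?_ ih (irrPerm_spec hs _)
    clear ih
    induction n with
    | zero => intro g; simp
    | succ n ih => rw [pow_succ]; exact ih.mul hs

theorem irrPerm_pow_prime (hs : Normalises s G) (hsp : ∀ g ∈ G, s ^ p * g = g * s ^ p) :
    irrPerm hs ^ p = 1 := by
  refine Equiv.ext fun χ => Subtype.ext (funext fun g => ?_)
  exact irrPerm_pow_spec hs χ p g g (by rw [hsp g g.2, mul_inv_cancel_right])

omit [Finite Γ] [Fact p.Prime] in
theorem conjEquiv_toEquiv_pow (hs : Normalises s G) (g : G) (n : ℕ) :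
    ((((conjEquiv hs).toEquiv ^ n : Equiv.Perm G) g : G) : Γ) = s ^ n * g * (s ^ n)⁻¹ := by
  induction n with
  | zero => simp
  | succ n ih =>
    rw [pow_succ', Equiv.Perm.mul_apply]
    show s * _ * s⁻¹ = _
    rw [ih, pow_succ']
    simp [mul_assoc]

omit [Finite Γ] [Fact p.Prime] in
theorem conjEquiv_pow_prime (hs : Normalises s G) (hsp : ∀ g ∈ G, s ^ p * g = g * s ^ p) :
    ((conjEquiv hs).toEquiv ^ p : Equiv.Perm G) = 1 := by
  refine Equiv.ext fun g => Subtype.ext ?_
  rw [conjEquiv_toEquiv_pow, hsp g g.2, mul_inv_cancel_right]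
  rfl

omit [Finite Γ] [Fact p.Prime] in
theorem isInv_zpowers_of {χ : G → ℂ} (hs : Normalises s G) (h : IsConjBy s χ χ) :
    IsInv (Subgroup.zpowers s) χ := by
  let T : Subgroup Γ :=
    { carrier := {γ | Normalises γ G ∧ IsConjBy γ χ χ}
      one_mem' := ⟨fun g => by simp, fun g g' hg => by
        have : g' = g := Subtype.ext (by simpa using hg)
        rw [this]⟩
      mul_mem' := fun {a b} ha hb => ⟨ha.1.mul hb.1, IsConjBy.trans hb.1 hb.2 ha.2⟩
      inv_mem' := fun {a} ha => ⟨ha.1.inv, fun g g' hg =>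
        (ha.2 g' g (by rw [hg]; simp [mul_assoc])).symm⟩ }
  have hsT : s ∈ T := ⟨hs, h⟩
  exact fun t ht => ((Subgroup.zpowers_le.2 hsT) ht).2

theorem irrPerm_eq_self_iff (hs : Normalises s G) (χ : IrrCharacter G) :
    irrPerm hs χ = χ ↔ IsInv (Subgroup.zpowers s) (χ : G → ℂ) := by
  constructor
  · intro h
    have := irrPerm_spec hs χ
    rw [h] at this
    exact isInv_zpowers_of hs this
  · intro h
    exact Subtype.ext (IsConjBy.eq hs (irrPerm_spec hs χ) (h s (Subgroup.mem_zpowers s)))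

theorem sum_eq_sum_centralized {k : Type*} [CommRing k] [CharP k p] [Fintype G] [Fintype C]
    (hs : Normalises s G) (hsp : ∀ g ∈ G, s ^ p * g = g * s ^ p) (hCG : C ≤ G)
    (hC : ∀ c, c ∈ G → (c ∈ C ↔ s * c = c * s)) (F : G → k) (hF : ∀ g, F (conjEquiv hs g) = F g) :
    ∑ g : G, F g = ∑ c : C, F ⟨c, hCG c.2⟩ := by
  classical
  rw [sum_eq_sum_fixed p (conjEquiv hs).toEquiv (conjEquiv_pow_prime hs hsp) F hF]
  symm
  refine Finset.sum_bij (fun c _ => (⟨c, hCG c.2⟩ : G)) ?_ ?_ ?_ (fun c _ => rfl)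
  · intro c _
    refine Finset.mem_filter.2 ⟨Finset.mem_univ _, Subtype.ext ?_⟩
    show s * (c : Γ) * s⁻¹ = c
    rw [(hC c (hCG c.2)).1 c.2, mul_inv_cancel_right]
  · intro a _ b _ h
    exact Subtype.ext (congrArg (fun x : G => (x : Γ)) h)
  · intro g hg
    have h : s * (g : Γ) * s⁻¹ = g := congrArg Subtype.val (Finset.mem_filter.1 hg).2
    exact ⟨⟨g, (hC g g.2).2 (mul_inv_eq_iff_eq_mul.1 h)⟩, Finset.mem_univ _, rfl⟩

/-- Elements of `C` conjugate in `G` are conjugate in `C`. -/
theorem isConj_of_isConj_centralized (hs : Normalises s G)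
    (hsp : ∀ g ∈ G, s ^ p * g = g * s ^ p) (hpG : ¬ p ∣ Nat.card G) (hCG : C ≤ G)
    (hC : ∀ c, c ∈ G → (c ∈ C ↔ s * c = c * s)) (c d : C)
    (h : IsConj (⟨c, hCG c.2⟩ : G) ⟨d, hCG d.2⟩) : IsConj c d := by
  classical
  obtain ⟨a, ha⟩ := isConj_iff.1 h
  set c' : G := ⟨c, hCG c.2⟩
  set d' : G := ⟨d, hCG d.2⟩
  let X := {g : G // g * c' * g⁻¹ = d'}
  have hfix : ∀ x : C, conjEquiv hs ⟨x, hCG x.2⟩ = ⟨x, hCG x.2⟩ := fun x => Subtype.ext (by
    show s * (x : Γ) * s⁻¹ = x
    rw [(hC x (hCG x.2)).1 x.2, mul_inv_cancel_right])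
  have hiff : ∀ g : G, g * c' * g⁻¹ = d' ↔
      conjEquiv hs g * c' * (conjEquiv hs g)⁻¹ = d' := by
    intro g
    rw [← (EquivLike.injective (conjEquiv hs)).eq_iff, map_mul, map_mul, map_inv,
      show conjEquiv hs c' = c' from hfix c, show conjEquiv hs d' = d' from hfix d]
  let τ : Equiv.Perm X := Equiv.Perm.subtypePerm (conjEquiv hs).toEquiv (fun g => (hiff g).symm)
  have hτ : τ ^ p = 1 := by
    refine Equiv.ext fun x => Subtype.ext ?_
    have h1 : ∀ n : ℕ, ((τ ^ n) x : G) = ((conjEquiv hs).toEquiv ^ n : Equiv.Perm G) x := by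
      intro n
      induction n with
      | zero => rfl
      | succ n ih => rw [pow_succ', pow_succ', Equiv.Perm.mul_apply, Equiv.Perm.mul_apply, ← ih]; rfl
    rw [h1, conjEquiv_pow_prime hs hsp]; rfl
  have hcard : Nat.card X = Nat.card (Subgroup.centralizer ({c'} : Set G)) := by
    refine Nat.card_congr
      { toFun := fun x => ⟨a⁻¹ * x.1, Subgroup.mem_centralizer_singleton_iff.2 ?_⟩
        invFun := fun y => ⟨a * y.1, ?_⟩
        left_inv := fun x => Subtype.ext (mul_inv_cancel_left a _)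
        right_inv := fun y => Subtype.ext (inv_mul_cancel_left a _) }
    · have hx : x.1 * c' * x.1⁻¹ = a * c' * a⁻¹ := x.2.trans ha.symm
      calc a⁻¹ * x.1 * c' = a⁻¹ * (x.1 * c' * x.1⁻¹) * x.1 := by group
        _ = a⁻¹ * (a * c' * a⁻¹) * x.1 := by rw [hx]
        _ = c' * (a⁻¹ * x.1) := by group
    · have hy := Subgroup.mem_centralizer_singleton_iff.1 y.2
      calc a * y.1 * c' * (a * y.1)⁻¹ = a * (y.1 * c') * y.1⁻¹ * a⁻¹ := by group
        _ = a * (c' * y.1) * y.1⁻¹ * a⁻¹ := by rw [hy]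
        _ = a * c' * a⁻¹ := by group
        _ = d' := ha
  obtain ⟨x, hx⟩ := exists_fixed_of_not_dvd τ hτ
    (hcard ▸ fun hd => hpG (hd.trans (Subgroup.card_subgroup_dvd_card _)))
  have hxC : (x.1 : Γ) ∈ C := by
    have h1 : s * (x.1 : Γ) * s⁻¹ = x.1 := congrArg (fun t : X => (t.1 : Γ)) hx
    exact (hC _ x.1.2).2 (mul_inv_eq_iff_eq_mul.1 h1)
  refine isConj_iff.2 ⟨⟨x.1, hxC⟩, Subtype.ext ?_⟩
  exact congrArg (fun t : G => (t : Γ)) x.2

/-- The correspondence for an automorphism of order `p`. -/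
theorem exists_step_map (hs : Normalises s G) (hsp : ∀ g ∈ G, s ^ p * g = g * s ^ p)
    (hpG : ¬ p ∣ Nat.card G) (hCG : C ≤ G) (hC : ∀ c, c ∈ G → (c ∈ C ↔ s * c = c * s)) :
    ∃ f : IrrCharacter C → IrrCharacter G, Function.Injective f ∧
      (∀ β, IsInv (Subgroup.zpowers s) (f β : G → ℂ)) ∧
      (∀ χ : IrrCharacter G, IsInv (Subgroup.zpowers s) (χ : G → ℂ) → ∃ β, f β = χ) ∧
      ∀ β, ((charMult (resSub hCG (f β : G → ℂ)) (β : C → ℂ) : ℤ) ≡ 1 [ZMOD p] ∨
          (charMult (resSub hCG (f β : G → ℂ)) (β : C → ℂ) : ℤ) ≡ -1 [ZMOD p]) ∧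
        ∀ γ : IrrCharacter C, γ ≠ β → p ∣ charMult (resSub hCG (f β : G → ℂ)) (γ : C → ℂ) := by
  classical
  haveI : Fintype G := Fintype.ofFinite G
  haveI : Fintype C := Fintype.ofFinite C
  obtain ⟨M, hM⟩ := exists_isPModular (Fact.out : p.Prime)
  haveI := isPModular_isPrime hM
  haveI := charP_residue hM
  have hpC : ¬ p ∣ Nat.card C := fun h => hpG (h.trans (Subgroup.card_dvd_of_le hCG))
  set incl : C → G := fun c => ⟨c, hCG c.2⟩ with hincl
  -- the restricted idempotents
  set u : IrrCharacter G → C → Residue M := fun χ c => idemVal M (χ : G → ℂ) (incl c) with hu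
  have hu_class : ∀ χ g h, u χ (h * g * h⁻¹) = u χ g := fun χ g h =>
    idemVal_class χ (incl g) (incl h)
  let Fix : Finset (IrrCharacter G) :=
    Finset.univ.filter fun χ => irrPerm hs χ = χ
  have hFix : ∀ χ, χ ∈ Fix ↔ IsInv (Subgroup.zpowers s) (χ : G → ℂ) := fun χ => by
    rw [Finset.mem_filter, irrPerm_eq_self_iff]; simp
  have hperm_val : ∀ (χ : IrrCharacter G) (g : G),
      idemVal M (irrPerm hs χ : G → ℂ) (conjEquiv hs g) = idemVal M (χ : G → ℂ) g := by
    intro χ g
    have h := irrPerm_spec hs χ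
    simp only [idemVal]
    rw [(isConjBy_iff hs).1 h g, h 1 1 (by simp)]
  have hinv_val : ∀ χ ∈ Fix, ∀ g, idemVal M (χ : G → ℂ) (conjEquiv hs g) = idemVal M (χ : G → ℂ) g := by
    intro χ hχ g
    have h := hperm_val χ g
    rwa [(Finset.mem_filter.1 hχ).2] at h
  have hincl_fix : ∀ c : C, conjEquiv hs (incl c) = incl c := fun c => Subtype.ext (by
    show s * (c : Γ) * s⁻¹ = c
    rw [(hC c (hCG c.2)).1 c.2, mul_inv_cancel_right])
  -- orthogonality
  have horth : ∀ χ ∈ Fix, ∀ ψ ∈ Fix, ∀ c : C,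
      ∑ x : C, u χ x * u ψ (x⁻¹ * c) = if χ = ψ then u χ c else 0 := by
    intro χ hχ ψ hψ c
    have h := idemVal_conv hM hpG χ ψ (incl c)
    rw [sum_eq_sum_centralized (p := p) hs hsp hCG hC
      (fun g => idemVal M (χ : G → ℂ) g * idemVal M (ψ : G → ℂ) (g⁻¹ * incl c))
      (fun g => by
        rw [hinv_val χ hχ]
        congr 1
        conv_lhs => rw [← hincl_fix c, ← map_inv, ← map_mul]
        exact hinv_val ψ hψ _)] at h
    exact h
  have hone : ∀ c : C, ∑ χ ∈ Fix, u χ c = if c = 1 then 1 else 0 := by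
    intro c
    have h := sum_idemVal hM hpG (incl c) (H := G)
    rw [sum_eq_sum_fixed p (irrPerm hs) (irrPerm_pow_prime hs hsp)
      (fun χ : IrrCharacter G => idemVal M (χ : G → ℂ) (incl c)) (fun χ => by
        conv_lhs => rw [← hincl_fix c]
        exact hperm_val χ (incl c))] at h
    refine h.trans (if_congr ?_ rfl rfl)
    exact ⟨fun hh => Subtype.ext (congrArg (fun t : G => (t : Γ)) hh), fun hh => by subst hh; rfl⟩
  set a : IrrCharacter G → IrrCharacter C → Residue M :=
    fun χ β => hatVal M (β : C → ℂ) (u χ) with ha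
  have ha_mul : ∀ χ ∈ Fix, ∀ ψ ∈ Fix, ∀ β, a χ β * a ψ β = if χ = ψ then a χ β else 0 := by
    intro χ hχ ψ hψ β
    simp only [ha]
    rw [← hatVal_conv hM hpC β (u χ) (u ψ) (hu_class ψ), funext (horth χ hχ ψ hψ)]
    split_ifs
    · rfl
    · simp [hatVal]
  have ha_sum : ∀ β, ∑ χ ∈ Fix, a χ β = 1 := by
    intro β
    simp only [ha]
    rw [← hatVal_sum, funext hone, hatVal_delta]
  have hex : ∀ β, ∃ χ ∈ Fix, a χ β = 1 ∧ ∀ ψ ∈ Fix, ψ ≠ χ → a ψ β = 0 := by
    intro β
    obtain ⟨χ, hχ, hχ0⟩ : ∃ χ ∈ Fix, a χ β ≠ 0 := by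
      by_contra h
      push Not at h
      exact zero_ne_one ((Finset.sum_eq_zero h).symm.trans (ha_sum β))
    have hother : ∀ ψ ∈ Fix, ψ ≠ χ → a ψ β = 0 := by
      intro ψ hψ hne
      have := ha_mul ψ hψ χ hχ β
      rw [if_neg hne] at this
      exact (mul_eq_zero.1 this).resolve_right hχ0
    refine ⟨χ, hχ, ?_, hother⟩
    rw [← ha_sum β, Finset.sum_eq_single_of_mem χ hχ hother]
  choose f hfmem hf1 hf0 using hex
  have hinv := fun χ : IrrCharacter G => eq_sum_hatVal hM hpC (u χ) (hu_class χ)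
  -- surjectivity
  have hsurj : ∀ χ ∈ Fix, ∃ β, f β = χ := by
    intro χ hχ
    by_contra h
    push Not at h
    have : u χ 1 = 0 := by
      rw [hinv χ 1]
      exact Finset.sum_eq_zero fun β _ => by
        show a χ β * _ = 0
        rw [hf0 β χ hχ (Ne.symm (h β)), zero_mul]
    exact idemVal_one_ne_zero hM hpG χ this
  -- injectivity
  have hinjf : Function.Injective f := by
    intro β β' hββ'
    by_contra hne
    let F : G → Residue M := fun g =>
      if h : ∃ c : C, IsConj (incl c) g then idemVal M (β : C → ℂ) h.choose else 0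
    have hFC : ∀ (g : G) (c : C), IsConj (incl c) g → F g = idemVal M (β : C → ℂ) c := by
      intro g c hc
      have hex : ∃ c : C, IsConj (incl c) g := ⟨c, hc⟩
      simp only [F]
      rw [dif_pos hex]
      obtain ⟨y, hy⟩ := isConj_iff.1 (isConj_of_isConj_centralized hs hsp hpG hCG hC _ c
        (hex.choose_spec.trans hc.symm))
      rw [← hy, idemVal_class]
    have hF0 : ∀ g : G, (¬ ∃ c : C, IsConj (incl c) g) → F g = 0 := fun g h => by
      simp only [F]; rw [dif_neg h]
    have hFclass : ∀ g h : G, F (h * g * h⁻¹) = F g := by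
      intro g h
      have hgg : IsConj g (h * g * h⁻¹) := isConj_iff.2 ⟨h, rfl⟩
      by_cases hh : ∃ c : C, IsConj (incl c) g
      · obtain ⟨c, hc⟩ := hh
        rw [hFC g c hc, hFC _ c (hc.trans hgg)]
      · rw [hF0 g hh, hF0]
        exact fun ⟨c, hc⟩ => hh ⟨c, hc.trans hgg.symm⟩
    have hFσ : ∀ g : G, F (conjEquiv hs g) = F g := by
      intro g
      have key : ∀ (e : G ≃* G), (∀ c, e (incl c) = incl c) → ∀ (g : G) c,
          IsConj (incl c) g → IsConj (incl c) (e g) := fun e he g c hc => by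
        rw [← he c]
        exact e.toMonoidHom.map_isConj hc
      by_cases hh : ∃ c : C, IsConj (incl c) g
      · obtain ⟨c, hc⟩ := hh
        rw [hFC g c hc, hFC _ c (key _ hincl_fix g c hc)]
      · rw [hF0 g hh, hF0]
        rintro ⟨c, hc⟩
        refine hh ⟨c, ?_⟩
        have := key (conjEquiv hs).symm (fun c => by
          rw [MulEquiv.symm_apply_eq]; exact (hincl_fix c).symm) _ c hc
        rwa [MulEquiv.symm_apply_apply] at this
    set h' : IrrCharacter G → Residue M := fun χ => hatVal M (χ : G → ℂ) F with hh'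
    have hh'inv : ∀ χ, h' (irrPerm hs χ) = h' χ := by
      intro χ
      simp only [hh', hatVal]
      refine (Fintype.sum_equiv (conjEquiv hs).toEquiv _ _ fun g => ?_).symm
      show F g * _ = F (conjEquiv hs g) * red M (conj ((irrPerm hs χ : G → ℂ) (conjEquiv hs g)) /
        (irrPerm hs χ : G → ℂ) 1)
      have h := irrPerm_spec hs χ
      rw [hFσ, (isConjBy_iff hs).1 h g, h 1 1 (by simp)]
    have hexp : ∀ c : C, idemVal M (β : C → ℂ) c = ∑ χ ∈ Fix, h' χ * u χ c := by
      intro c
      have h1 := eq_sum_hatVal hM hpG F hFclass (incl c)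
      rw [hFC (incl c) c (IsConj.refl _)] at h1
      rw [h1, sum_eq_sum_fixed p (irrPerm hs) (irrPerm_pow_prime hs hsp)
        (fun χ : IrrCharacter G => h' χ * idemVal M (χ : G → ℂ) (incl c))]
      intro χ
      rw [hh'inv]
      congr 1
      conv_lhs => rw [← hincl_fix c]
      exact hperm_val χ (incl c)
    have hval : ∀ γ : IrrCharacter C, (if γ = β then 1 else 0) = h' (f γ) := by
      intro γ
      rw [← hatVal_idemVal hM hpC γ β, funext hexp, hatVal_sum,
        Finset.sum_eq_single_of_mem (f γ) (hfmem γ)]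
      · rw [hatVal_const_mul]
        show h' (f γ) * a (f γ) γ = _
        rw [hf1 γ, mul_one]
      · intro χ hχ hne'
        rw [hatVal_const_mul]
        show h' χ * a χ γ = 0
        rw [hf0 γ χ hχ hne', mul_zero]
    have e1 := hval β
    have e2 := hval β'
    rw [if_pos rfl, hββ'] at e1
    rw [if_neg (Ne.symm hne), ← e1] at e2
    exact zero_ne_one e2
  refine ⟨f, hinjf, fun β => (hFix _).1 (hfmem β), fun χ hχ => hsurj χ ((hFix χ).2 hχ), fun β => ?_⟩
  -- congruences for multiplicities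
  obtain ⟨nχ, hnχ0, hnχ, hnχd⟩ := Chars.irr_degree_dvd_card (f β)
  have hcardGC : (Nat.card G : Residue M) = (Nat.card C : Residue M) := by
    have h := sum_eq_sum_centralized (p := p) hs hsp hCG hC (fun _ : G => (1 : Residue M))
      (fun _ => rfl)
    simpa [Nat.card_eq_fintype_card] using h
  have hG0 : (Nat.card G : Residue M) ≠ 0 := fun h => hpG ((natCast_red_eq_zero hM _).1 h)
  have hn0 : (nχ : Residue M) ≠ 0 := fun h =>
    hpG (((natCast_red_eq_zero hM _).1 h).trans hnχd)
  have huβ : u (f β) = idemVal M (β : C → ℂ) := by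
    funext c
    rw [hinv (f β) c, Finset.sum_eq_single β]
    · show a (f β) β * _ = _
      rw [hf1 β, one_mul]
    · intro γ _ hne
      show a (f β) γ * _ = _
      rw [hf0 γ (f β) (hfmem β) (fun h => hne (hinjf h).symm), zero_mul]
    · exact fun h => absurd (Finset.mem_univ β) h
  have key : ∀ γ : IrrCharacter C, ∀ nγ : ℕ, (γ : C → ℂ) 1 = nγ → nγ ∣ Nat.card C →
      (nχ : Residue M) * charMult (resSub hCG (f β : G → ℂ)) (γ : C → ℂ) =
        (if γ = β then 1 else 0) * (nγ : Residue M) := by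
    intro γ nγ hnγ hnγd
    have h1 : hatVal M (γ : C → ℂ) (u (f β)) = if γ = β then 1 else 0 := by
      rw [huβ, hatVal_idemVal hM hpC]
    have h2 : hatVal M (γ : C → ℂ) (u (f β)) * ((Nat.card G : Residue M) * (nγ : Residue M)) =
        red M ((nχ : ℂ) * ((Nat.card C : ℂ) *
          (charMult (resSub hCG (f β : G → ℂ)) (γ : C → ℂ) : ℂ))) := by
      rw [hatVal, Finset.sum_mul, ← charMult_spec (isCharacter_resSub hCG (Chars.irr_isCharacter _))
          (Chars.irr_isCharacter γ)]
      have hstep : ∀ c : C, u (f β) c * red M (conj ((γ : C → ℂ) c) / (γ : C → ℂ) 1) *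
          ((Nat.card G : Residue M) * (nγ : Residue M)) =
          red M ((nχ : ℂ) * ((f β : G → ℂ) (incl c) * conj ((γ : C → ℂ) c))) := by
        intro c
        simp only [hu, idemVal]
        rw [← red_natCast, ← red_natCast, ← red_mul (idem_mem hM hpG _ _) (conj_div_mem hM hpC γ c),
          ← red_mul (natCast_mem_localRing _) (natCast_mem_localRing _),
          ← red_mul (mul_mem (idem_mem hM hpG _ _) (conj_div_mem hM hpC γ c))
            (mul_mem (natCast_mem_localRing _) (natCast_mem_localRing _))]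
        congr 1
        have hg0 : (nγ : ℂ) ≠ 0 := hnγ ▸ Chars.irr_apply_one_ne_zero γ
        have hG0' : (Nat.card G : ℂ) ≠ 0 := Nat.cast_ne_zero.2 Nat.card_pos.ne'
        rw [hnγ, hnχ]
        field_simp
      rw [Finset.sum_congr rfl (fun c _ => hstep c),
        ← red_sum _ (fun c _ => mul_mem (natCast_mem_localRing _)
          (mul_mem (val_mem _ _) (conj_val_mem γ c)))]
      congr 1
      rw [classInner, ← mul_assoc ((Nat.card C : ℕ) : ℂ) ((Nat.card C : ℕ) : ℂ)⁻¹,
        mul_inv_cancel₀ (Nat.cast_ne_zero.2 Nat.card_pos.ne'), one_mul, Finset.mul_sum]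
      rfl
    rw [h1, red_mul (natCast_mem_localRing _)
      (mul_mem (natCast_mem_localRing _) (natCast_mem_localRing _)),
      red_mul (natCast_mem_localRing _) (natCast_mem_localRing _), red_natCast, red_natCast,
      red_natCast, ← hcardGC] at h2
    refine mul_left_cancel₀ hG0 ?_
    linear_combination -h2
  refine ⟨?_, fun γ hγ => ?_⟩
  · obtain ⟨nβ, _, hnβ, hnβd⟩ := Chars.irr_degree_dvd_card β
    have h := key β nβ hnβ hnβd
    rw [if_pos rfl, one_mul] at h
    have hsq : (nχ : Residue M) * nχ = (nβ : Residue M) * nβ := by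
      have h0 := congrFun huβ 1
      simp only [hu, idemVal] at h0
      have h1 : incl (1 : C) = (1 : G) := rfl
      rw [h1, hnχ, hnβ] at h0
      have e1 : red M ((nχ : ℂ) * nχ / (Nat.card G : ℂ)) * (Nat.card G : Residue M) =
          (nχ : Residue M) * nχ := by
        rw [← red_natCast, ← red_mul (by have := idem_mem hM hpG (f β) 1; rwa [hnχ] at this)
            (natCast_mem_localRing _), div_mul_cancel₀ _ (Nat.cast_ne_zero.2 Nat.card_pos.ne'),
          red_mul (natCast_mem_localRing _) (natCast_mem_localRing _), red_natCast]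
      have e2 : red M ((nβ : ℂ) * nβ / (Nat.card C : ℂ)) * (Nat.card C : Residue M) =
          (nβ : Residue M) * nβ := by
        rw [← red_natCast, ← red_mul (by have := idem_mem hM hpC β 1; rwa [hnβ] at this)
            (natCast_mem_localRing _), div_mul_cancel₀ _ (Nat.cast_ne_zero.2 Nat.card_pos.ne'),
          red_mul (natCast_mem_localRing _) (natCast_mem_localRing _), red_natCast]
      rw [← e1, ← e2, h0, hcardGC]
    set m := charMult (resSub hCG (f β : G → ℂ)) (β : C → ℂ)
    have hm : (m : Residue M) * m = 1 := by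
      refine mul_left_cancel₀ (mul_ne_zero hn0 hn0) ?_
      rw [mul_one]
      conv_rhs => rw [hsq, ← h]
      ring
    rcases mul_self_eq_one_iff.1 hm with hm1 | hm1
    · left
      refine (CharP.intCast_eq_intCast (Residue M) p).1 ?_
      push_cast
      exact hm1
    · right
      refine (CharP.intCast_eq_intCast (Residue M) p).1 ?_
      push_cast
      exact hm1
  · obtain ⟨nγ, _, hnγ, hnγd⟩ := Chars.irr_degree_dvd_card γ
    have h := key γ nγ hnγ hnγd
    rw [if_neg hγ, zero_mul] at h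
    exact (natCast_red_eq_zero hM _).1 ((mul_eq_zero.1 h).resolve_left hn0)

end Cfsg.Agent.Lib.Glauberman
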