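import Mathlib
import Cfsg.Agent.Lib.Glauberman.Step
import Cfsg.Agent.Lib.Clifford.Correspondence

/-!
# The Glauberman correspondence for p-groups of operators
-/

set_option autoImplicit false

namespace Cfsg.Agent.Lib.Glauberman

open Cfsg
open Cfsg.Agent.Lib
open scoped ComplexConjugate

variable {Γ : Type*} [Group Γ] [Finite Γ] {G C N D S T : Subgroup Γ}

/-- `f` is a bijection of `Irr C` onto the `S`-invariant irreducible characters of `G`. -/
structure IsCorr (S G C : Subgroup Γ) (f : IrrCharacter C → IrrCharacter G) : Prop where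
  inj : Function.Injective f
  inv : ∀ β, IsInv S (f β : G → ℂ)
  surj : ∀ χ : IrrCharacter G, IsInv S (χ : G → ℂ) → ∃ β, f β = χ

/-- `f` commutes with conjugation by elements normalising `G` and `S`. -/
def IsNatural (S G C : Subgroup Γ) (f : IrrCharacter C → IrrCharacter G) : Prop :=
  ∀ γ, Normalises γ G → Normalises γ S → ∀ β β' : IrrCharacter C,
    IsConjBy γ (β : C → ℂ) (β' : C → ℂ) → IsConjBy γ (f β : G → ℂ) (f β' : G → ℂ)

/-- `f` and `f'` respect constituents of restrictions. -/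
def IsCompat {G C N D : Subgroup Γ} (hNG : N ≤ G) (hDC : D ≤ C)
    (f : IrrCharacter C → IrrCharacter G) (f' : IrrCharacter D → IrrCharacter N) : Prop :=
  ∀ (β : IrrCharacter C) (α : IrrCharacter D), charMult (resSub hDC (β : C → ℂ)) (α : D → ℂ) ≠ 0 →
    charMult (resSub hNG (f β : G → ℂ)) (f' α : N → ℂ) ≠ 0

/-- The Glauberman correspondence of a `p`-group. -/
structure IsPCorr (p : ℕ) (S G C : Subgroup Γ) (hCG : C ≤ G)
    (f : IrrCharacter C → IrrCharacter G) : Prop extends IsCorr S G C f where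
  cong : ∀ β, ((charMult (resSub hCG (f β : G → ℂ)) (β : C → ℂ) : ℤ) ≡ 1 [ZMOD p] ∨
      (charMult (resSub hCG (f β : G → ℂ)) (β : C → ℂ) : ℤ) ≡ -1 [ZMOD p]) ∧
    ∀ γ : IrrCharacter C, γ ≠ β → p ∣ charMult (resSub hCG (f β : G → ℂ)) (γ : C → ℂ)

/-- The elements fixing a function. -/
def invGroup (χ : G → ℂ) : Subgroup Γ where
  carrier := {γ | Normalises γ G ∧ IsConjBy γ χ χ}
  one_mem' := ⟨fun g => by simp, fun g g' hg => by
    have : g' = g := Subtype.ext (by simpa using hg)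
    rw [this]⟩
  mul_mem' := fun {a b} ha hb => ⟨ha.1.mul hb.1, IsConjBy.trans hb.1 hb.2 ha.2⟩
  inv_mem' := fun {a} ha => ⟨ha.1.inv, fun g g' hg =>
    (ha.2 g' g (by rw [hg]; simp [mul_assoc])).symm⟩

theorem le_invGroup {χ : G → ℂ} (hS : ∀ s ∈ S, Normalises s G) (h : IsInv S χ) :
    S ≤ invGroup χ := fun s hs => ⟨hS s hs, h s hs⟩

theorem isInv_of_le_invGroup {χ : G → ℂ} (h : S ≤ invGroup χ) : IsInv S χ :=
  fun s hs => (h hs).2

theorem centralizer_normalises {γ : Γ} (hG : Normalises γ G) (hS : Normalises γ S) :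
    Normalises γ (G ⊓ Subgroup.centralizer (S : Set Γ)) := by
  intro g
  simp only [Subgroup.mem_inf, Subgroup.mem_centralizer_iff, SetLike.mem_coe]
  refine and_congr (hG g) ⟨fun h t ht => ?_, fun h t ht => ?_⟩
  · have h1 := h (γ⁻¹ * t * γ) ((hS _).2 (by simpa [mul_assoc] using ht))
    calc t * (γ * g * γ⁻¹) = γ * ((γ⁻¹ * t * γ) * g) * γ⁻¹ := by group
      _ = γ * (g * (γ⁻¹ * t * γ)) * γ⁻¹ := by rw [h1]
      _ = γ * g * γ⁻¹ * t := by group
  · have h1 := h (γ * t * γ⁻¹) ((hS t).1 ht)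
    calc t * g = γ⁻¹ * ((γ * t * γ⁻¹) * (γ * g * γ⁻¹)) * γ := by group
      _ = γ⁻¹ * ((γ * g * γ⁻¹) * (γ * t * γ⁻¹)) * γ := by rw [h1]
      _ = g * t := by group

theorem IsInv.of_conjBy {γ : Γ} (hG : Normalises γ G) (hS : Normalises γ S)
    (hSG : ∀ s ∈ S, Normalises s G) {χ χ' : G → ℂ} (h : IsConjBy γ χ χ') (hχ : IsInv S χ) :
    IsInv S χ' := by
  intro s hs g g' hg
  have hs' : γ⁻¹ * s * γ ∈ S := (hS _).2 (by simpa [mul_assoc] using hs)
  obtain ⟨g₀, rfl⟩ := (conjEquiv hG).surjective g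
  have h1 : γ⁻¹ * s * γ * g₀ * (γ⁻¹ * s * γ)⁻¹ ∈ G := ((hSG _ hs') g₀).1 g₀.2
  rw [h ⟨_, h1⟩ g' (by rw [hg, conjEquiv_coe]; simp [mul_assoc]), h g₀ _ rfl]
  exact hχ _ hs' g₀ ⟨_, h1⟩ rfl

theorem IsPCorr.not_dvd {p : ℕ} [hp : Fact p.Prime] {hCG : C ≤ G}
    {f : IrrCharacter C → IrrCharacter G} (hf : IsPCorr p S G C hCG f) (β : IrrCharacter C) :
    ¬ p ∣ charMult (resSub hCG (f β : G → ℂ)) (β : C → ℂ) := by
  intro h
  have h0 : (charMult (resSub hCG (f β : G → ℂ)) (β : C → ℂ) : ℤ) ≡ 0 [ZMOD p] :=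
    Int.modEq_zero_iff_dvd.2 (Int.natCast_dvd_natCast.2 h)
  have h2 := hp.out.two_le
  rcases (hf.cong β).1 with e | e
  · have := Int.modEq_zero_iff_dvd.1 (e.symm.trans h0)
    have := Int.le_of_dvd one_pos this
    omega
  · have h' := Int.modEq_zero_iff_dvd.1 (e.symm.trans h0)
    rw [Int.dvd_neg] at h'
    have := Int.le_of_dvd one_pos h'
    omega

theorem IsPCorr.eq_of_not_dvd {p : ℕ} {hCG : C ≤ G}
    {f : IrrCharacter C → IrrCharacter G} (hf : IsPCorr p S G C hCG f) {β γ : IrrCharacter C}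
    (h : ¬ p ∣ charMult (resSub hCG (f β : G → ℂ)) (γ : C → ℂ)) : γ = β :=
  by_contra fun hne => h ((hf.cong β).2 γ hne)

theorem IsPCorr.natural {p : ℕ} [Fact p.Prime] {hCG : C ≤ G}
    {f : IrrCharacter C → IrrCharacter G} (hf : IsPCorr p S G C hCG f)
    (hSG : ∀ s ∈ S, Normalises s G) (hC : C = G ⊓ Subgroup.centralizer (S : Set Γ)) :
    IsNatural S G C f := by
  intro γ hG hS β β' hβ
  obtain ⟨χ', hχ'⟩ := exists_isConjBy hG (f β)
  obtain ⟨β'', rfl⟩ := hf.surj χ' (IsInv.of_conjBy hG hS hSG hχ' (hf.inv β))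
  have hCn : Normalises γ C := hC ▸ centralizer_normalises hG hS
  have : ¬ p ∣ charMult (resSub hCG (f β'' : G → ℂ)) (β' : C → ℂ) := by
    rw [charMult_conjBy hG hCn hCG hχ' hβ]
    exact hf.not_dvd β
  rw [hf.eq_of_not_dvd this]
  exact hχ'

theorem IsPCorr.unique {p : ℕ} [Fact p.Prime] {hCG : C ≤ G}
    {f f' : IrrCharacter C → IrrCharacter G} (hf : IsPCorr p S G C hCG f)
    (hf' : IsPCorr p S G C hCG f') : f = f' := by
  funext β
  obtain ⟨β', hβ'⟩ := hf.surj (f' β) (hf'.inv β)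
  have : ¬ p ∣ charMult (resSub hCG (f β' : G → ℂ)) (β : C → ℂ) := by
    rw [hβ']; exact hf'.not_dvd β
  rw [← hβ', hf.eq_of_not_dvd this]

/-- A constituent of the restriction to a normal subgroup has multiplicity dividing the order. -/
theorem charMult_dvd_card_of_normal (hDC : D ≤ C) (hn : ∀ c ∈ C, ∀ d ∈ D, c * d * c⁻¹ ∈ D)
    (β : IrrCharacter C) (α : IrrCharacter D)
    (h : charMult (resSub hDC (β : C → ℂ)) (α : D → ℂ) ≠ 0) :
    charMult (resSub hDC (β : C → ℂ)) (α : D → ℂ) ∣ Nat.card C := by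
  classical
  haveI : Fintype C := Fintype.ofFinite C
  haveI : Fintype D := Fintype.ofFinite D
  haveI : (D.subgroupOf C).Normal := ⟨fun d hd c => hn c c.2 d hd⟩
  haveI : Fintype (D.subgroupOf C) := Fintype.ofFinite _
  let e := Subgroup.subgroupOfEquivOfLe hDC
  let θ : D.subgroupOf C → ℂ := fun x => (α : D → ℂ) (e x)
  have hθ : IsIrrCharacter (D.subgroupOf C) θ := Clifford.isIrrCharacter_comp_equiv e α.2
  have hmult : classInner (Clifford.resFun (D.subgroupOf C) (β : C → ℂ)) θ =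
      (charMult (resSub hDC (β : C → ℂ)) (α : D → ℂ) : ℂ) := by
    rw [← charMult_spec (isCharacter_resSub hDC (Chars.irr_isCharacter β)) (Chars.irr_isCharacter α)]
    unfold classInner
    rw [Nat.card_congr e.toEquiv]
    refine congrArg _ (Fintype.sum_equiv e.toEquiv _ _ fun x => ?_)
    rfl
  let T : Subgroup C :=
    { carrier := {g | Clifford.conjFun g θ = θ}
      one_mem' := Clifford.conjFun_one θ
      mul_mem' := fun {a b} ha hb => by
        simp only [Set.mem_setOf_eq] at ha hb ⊢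
        rw [Clifford.conjFun_mul, ha, hb]
      inv_mem' := fun {a} ha => by
        simp only [Set.mem_setOf_eq] at ha ⊢
        conv_lhs => rw [← ha]
        rw [← Clifford.conjFun_mul, mul_inv_cancel, Clifford.conjFun_one] }
  have key := Clifford.apply_one_eq β.2 hθ (by rw [hmult]; exact_mod_cast h) T (fun g => Iff.rfl)
  obtain ⟨nβ, _, hnβ, hnβd⟩ := Chars.irr_degree_dvd_card β
  obtain ⟨nα, _, hnα, -⟩ := Chars.irr_degree_dvd_card α
  have h1 : θ 1 = nα := by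
    show (α : D → ℂ) (e 1) = nα
    rw [map_one, hnα]
  rw [hnβ, hmult, h1] at key
  have key' : nβ = charMult (resSub hDC (β : C → ℂ)) (α : D → ℂ) * (T.index * nα) := by
    exact_mod_cast key
  exact (Dvd.intro _ key'.symm).trans hnβd

/-- Compatibility for one step. -/
theorem isCompat_of_step {p : ℕ} [Fact p.Prime] {s : Γ} (hpG : ¬ p ∣ Nat.card G)
    (hNG : N ≤ G) (hDC : D ≤ C) (hDn : ∀ c ∈ C, ∀ d ∈ D, c * d * c⁻¹ ∈ D)
    (hsN : Normalises s N) (hsG : Normalises s G)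
    (hspN : ∀ g ∈ N, s ^ p * g = g * s ^ p)
    (hCG : C ≤ G) (hDN : D ≤ N)
    (hDs : ∀ d ∈ D, s * d = d * s)
    {f : IrrCharacter C → IrrCharacter G} {f' : IrrCharacter D → IrrCharacter N}
    (hf : IsPCorr p (Subgroup.zpowers s) G C hCG f)
    (hf' : IsPCorr p (Subgroup.zpowers s) N D hDN f') : IsCompat hNG hDC f f' := by
  classical
  intro β α hβα hzero
  have hpm : ¬ p ∣ charMult (resSub hDC (β : C → ℂ)) (α : D → ℂ) := fun h =>
    hpG (h.trans ((charMult_dvd_card_of_normal hDC hDn β α hβα).trans (Subgroup.card_dvd_of_le hCG)))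
  have h1 := charMult_trans hCG hDC (Chars.irr_isCharacter (f β)) α
  have h2 := charMult_trans hNG hDN (Chars.irr_isCharacter (f β)) α
  rw [h2] at h1
  have h1' := congrArg (fun n : ℕ => (n : ZMod p)) h1
  push_cast at h1'
  rw [Finset.sum_eq_single β (fun δ _ hne => by
      rw [(ZMod.natCast_eq_zero_iff _ _).2 ((hf.cong β).2 δ hne), zero_mul]) 
    (fun h => absurd (Finset.mem_univ _) h)] at h1'
  have hR : (charMult (resSub hCG (f β : G → ℂ)) (β : C → ℂ) : ZMod p) *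
      (charMult (resSub hDC (β : C → ℂ)) (α : D → ℂ) : ZMod p) ≠ 0 := by
    refine mul_ne_zero ?_ ?_ <;> rw [Ne, ZMod.natCast_eq_zero_iff]
    · exact hf.not_dvd β
    · exact hpm
  apply hR
  rw [← h1']
  have hsD : Normalises s D := fun d => by
    refine ⟨fun hd => by rw [hDs d hd, mul_inv_cancel_right]; exact hd, fun hd => ?_⟩
    have h := hDs _ hd
    have h' : d = s * d * s⁻¹ := by
      have h3 : s⁻¹ * (s * (s * d * s⁻¹)) * s = s⁻¹ * (s * d * s⁻¹ * s) * s := by rw [h]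
      simp only [mul_assoc, inv_mul_cancel_left, inv_mul_cancel, mul_one] at h3
      exact mul_right_cancel ((by simpa [mul_assoc] using h3.symm) : d * s = (s * d * s⁻¹) * s)
    rw [h']; exact hd
  have hα : IsConjBy s (α : D → ℂ) (α : D → ℂ) := fun d d' hd => by
    have : d' = d := Subtype.ext (by rw [hd, hDs d d.2, mul_inv_cancel_right])
    rw [this]
  rw [sum_eq_sum_fixed p (irrPerm hsN) (irrPerm_pow_prime hsN hspN)]
  · refine Finset.sum_eq_zero fun θ hθ => ?_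
    have hθi := (irrPerm_eq_self_iff hsN θ).1 (Finset.mem_filter.1 hθ).2
    obtain ⟨α', rfl⟩ := hf'.surj θ hθi
    by_cases hα' : α = α'
    · subst hα'
      rw [hzero, Nat.cast_zero, zero_mul]
    · rw [(ZMod.natCast_eq_zero_iff _ _).2 ((hf'.cong α').2 α hα'), mul_zero]
  · intro θ
    rw [charMult_conjBy hsN hsD hDN (irrPerm_spec hsN θ) hα,
      charMult_conjBy hsG hsN hNG (hf.inv β s (Subgroup.mem_zpowers s)) (irrPerm_spec hsN θ)]

/-- Correspondences for `G` and a normalised subgroup `N` at once. -/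
theorem exists_pCorr_pair (p : ℕ) [hp : Fact p.Prime] :
    ∀ (S : Subgroup Γ), IsPGroup p S → ∀ (G N C D : Subgroup Γ) (hNG : N ≤ G) (hDC : D ≤ C)
      (hCG : C ≤ G) (hDN : D ≤ N), (∀ g ∈ G, ∀ n ∈ N, g * n * g⁻¹ ∈ N) →
      (∀ s ∈ S, Normalises s G) → (∀ s ∈ S, Normalises s N) → ¬ p ∣ Nat.card G →
      C = G ⊓ Subgroup.centralizer (S : Set Γ) → D = N ⊓ Subgroup.centralizer (S : Set Γ) →
      ∃ f f', IsPCorr p S G C hCG f ∧ IsPCorr p S N D hDN f' ∧ IsCompat hNG hDC f f' := by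
  intro S
  induction hk : Nat.card S using Nat.strong_induction_on generalizing S with | _ k ih => ?_
  intro hS G N C D hNG hDC hCG hDN hNn hSG hSN hpG hC hD
  classical
  by_cases hbot : S = ⊥
  · subst hbot
    have hc : Subgroup.centralizer ((⊥ : Subgroup Γ) : Set Γ) = ⊤ :=
      Subgroup.centralizer_eq_top_iff_subset.2 (by simp)
    rw [hc, inf_top_eq] at hC hD
    subst hC hD
    have hid : ∀ (H : Subgroup Γ) (h : H ≤ H), IsPCorr p ⊥ H H h id := fun H h => by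
      refine ⟨⟨Function.injective_id, fun β t ht g g' hg => ?_, fun χ _ => ⟨χ, rfl⟩⟩, fun β => ?_⟩
      · rw [Subgroup.mem_bot] at ht
        have : g' = g := Subtype.ext (by rw [hg, ht]; simp)
        rw [this]
      · have hr : resSub h ((id β : IrrCharacter H) : H → ℂ) = (β : H → ℂ) := rfl
        rw [hr]
        refine ⟨Or.inl ?_, fun γ hne => ?_⟩
        · rw [charMult_irr, if_pos rfl]; rfl
        · rw [charMult_irr, if_neg (Ne.symm hne)]; exact dvd_zero p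
    exact ⟨id, id, hid _ hCG, hid _ hDN, fun β α h => h⟩
  obtain ⟨e, he⟩ := IsPGroup.iff_card.1 hS
  have he0 : e ≠ 0 := by
    rintro rfl
    exact hbot (Subgroup.card_eq_one.1 (by simpa using he))
  obtain ⟨T₀, hT₀⟩ := Sylow.exists_subgroup_card_pow_prime (G := S) p (n := e - 1)
    (by rw [he]; exact pow_dvd_pow p (Nat.sub_le _ _))
  have hind : T₀.index = p := by
    have := T₀.card_mul_index
    rw [hT₀, he] at this
    have hpp : p ^ e = p ^ (e - 1) * p := by rw [← pow_succ]; congr 1; omega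
    rw [hpp] at this
    exact Nat.eq_of_mul_eq_mul_left (pow_pos hp.out.pos _) this
  haveI hT₀n : T₀.Normal := Subgroup.normal_of_index_eq_minFac_card (by
    rw [he, hind, Nat.pow_minFac he0, hp.out.minFac_eq])
  obtain ⟨s₀, hs₀⟩ : ∃ s₀ : S, s₀ ∉ T₀ := by
    by_contra h
    push Not at h
    rw [(Subgroup.eq_top_iff' T₀).2 h, Subgroup.index_top] at hind
    exact hp.out.one_lt.ne hind
  set s : Γ := (s₀ : Γ) with hsdef
  set T : Subgroup Γ := T₀.map S.subtype with hT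
  have hTS : T ≤ S := Subgroup.map_subtype_le _
  have hspT : s ^ p ∈ T := ⟨s₀ ^ p, hind ▸ Subgroup.pow_index_mem T₀ s₀, rfl⟩
  have hsT : Normalises s T := by
    refine normalises_of_mem ?_
    rintro _ ⟨t, ht, rfl⟩
    exact ⟨s₀ * t * s₀⁻¹, hT₀n.conj_mem t ht s₀, rfl⟩
  have hgen : S = T ⊔ Subgroup.zpowers s := by
    refine le_antisymm ?_ (sup_le hTS (Subgroup.zpowers_le.2 s₀.2))
    have htop : T₀ ⊔ Subgroup.zpowers s₀ = ⊤ := by
      set J := T₀ ⊔ Subgroup.zpowers s₀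
      have h2 : J.index ∣ p := hind ▸ Subgroup.index_dvd_of_le le_sup_left
      rcases (Nat.dvd_prime hp.out).1 h2 with h3 | h3
      · exact Subgroup.index_eq_one.1 h3
      · exfalso
        apply hs₀
        have hr := Subgroup.relIndex_mul_index (le_sup_left : T₀ ≤ J)
        rw [h3, hind, mul_eq_right₀ hp.out.pos.ne'] at hr
        exact Subgroup.relIndex_eq_one.1 hr (Subgroup.mem_sup_right (Subgroup.mem_zpowers s₀))
    intro x hx
    have h' : (⟨x, hx⟩ : S) ∈ T₀ ⊔ Subgroup.zpowers s₀ := htop ▸ Subgroup.mem_top _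
    have := Subgroup.mem_map_of_mem S.subtype h'
    rw [Subgroup.map_sup, MonoidHom.map_zpowers] at this
    exact this
  have hTcard : Nat.card T < k := by
    rw [← hk, hT, Subgroup.card_map_of_injective S.subtype_injective, hT₀, he]
    exact Nat.pow_lt_pow_right hp.out.one_lt (by omega)
  set G₁ := G ⊓ Subgroup.centralizer (T : Set Γ) with hG₁
  set N₁ := N ⊓ Subgroup.centralizer (T : Set Γ) with hN₁
  have hN₁G₁ : N₁ ≤ G₁ := inf_le_inf_right _ hNG
  have hcT : Subgroup.centralizer (S : Set Γ) ≤ Subgroup.centralizer (T : Set Γ) :=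
    Subgroup.centralizer_le hTS
  have hCG₁ : C ≤ G₁ := hC ▸ inf_le_inf_left _ hcT
  have hDN₁ : D ≤ N₁ := hD ▸ inf_le_inf_left _ hcT
  obtain ⟨f₁, f₁', hf₁, hf₁', hcomp₁⟩ := ih _ hTcard T rfl (hS.to_le hTS) G N G₁ N₁ hNG hN₁G₁
    inf_le_left inf_le_left hNn (fun t ht => hSG t (hTS ht)) (fun t ht => hSN t (hTS ht)) hpG rfl rfl
  have hsG : Normalises s G := hSG s s₀.2
  have hsN : Normalises s N := hSN s s₀.2
  have hsG₁ : Normalises s G₁ := centralizer_normalises hsG hsT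
  have hsN₁ : Normalises s N₁ := centralizer_normalises hsN hsT
  have hsp₁ : ∀ g ∈ G₁, s ^ p * g = g * s ^ p := fun g hg =>
    Subgroup.mem_centralizer_iff.1 hg.2 _ hspT
  have hmemS : ∀ (H : Subgroup Γ) (c : Γ), c ∈ H ⊓ Subgroup.centralizer (T : Set Γ) →
      (c ∈ H ⊓ Subgroup.centralizer (S : Set Γ) ↔ s * c = c * s) := by
    intro H c hc
    refine ⟨fun h => Subgroup.mem_centralizer_iff.1 h.2 s s₀.2, fun h => ⟨hc.1, ?_⟩⟩
    have hle : S ≤ Subgroup.centralizer ({c} : Set Γ) := by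
      rw [hgen]
      exact sup_le (fun t ht => Subgroup.mem_centralizer_singleton_iff.2
        (Subgroup.mem_centralizer_iff.1 hc.2 t ht))
        (Subgroup.zpowers_le.2 (Subgroup.mem_centralizer_singleton_iff.2 h))
    exact Subgroup.mem_centralizer_iff.2 fun t ht =>
      Subgroup.mem_centralizer_singleton_iff.1 (hle ht)
  have hpG₁ : ¬ p ∣ Nat.card G₁ := fun h => hpG (h.trans (Subgroup.card_dvd_of_le inf_le_left))
  have hpN₁ : ¬ p ∣ Nat.card N₁ := fun h =>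
    hpG₁ (h.trans (Subgroup.card_dvd_of_le hN₁G₁))
  obtain ⟨f₂, hf₂i, hf₂v, hf₂s, hf₂c⟩ := exists_step_map (p := p) hsG₁ hsp₁ hpG₁ hCG₁
    (fun c hc => by rw [hC]; exact hmemS G c hc)
  obtain ⟨f₂', hf₂'i, hf₂'v, hf₂'s, hf₂'c⟩ := exists_step_map (p := p) hsN₁
    (fun g hg => hsp₁ g (hN₁G₁ hg)) hpN₁ hDN₁
    (fun c hc => by rw [hD]; exact hmemS N c hc)
  have hf₂ : IsPCorr p (Subgroup.zpowers s) G₁ C hCG₁ f₂ := ⟨⟨hf₂i, hf₂v, hf₂s⟩, hf₂c⟩
  have hf₂' : IsPCorr p (Subgroup.zpowers s) N₁ D hDN₁ f₂' := ⟨⟨hf₂'i, hf₂'v, hf₂'s⟩, hf₂'c⟩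
  have hcompose : ∀ (H H₁ E : Subgroup Γ) (h₁ : H₁ ≤ H) (h₂ : E ≤ H₁) (hEH : E ≤ H)
      (g₁ : IrrCharacter H₁ → IrrCharacter H) (g₂ : IrrCharacter E → IrrCharacter H₁),
      (∀ t ∈ S, Normalises t H) → H₁ = H ⊓ Subgroup.centralizer (T : Set Γ) →
      IsPCorr p T H H₁ h₁ g₁ → IsPCorr p (Subgroup.zpowers s) H₁ E h₂ g₂ →
      IsPCorr p S H E hEH (g₁ ∘ g₂) := by
    intro H H₁ E h₁ h₂ hEH g₁ g₂ hSH hH₁ hg₁ hg₂
    have hsH : Normalises s H := hSH s s₀.2
    have hnat := hg₁.natural (fun t ht => hSH t (hTS ht)) hH₁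
    refine ⟨⟨hg₁.inj.comp hg₂.inj, fun β => ?_, fun χ hχ => ?_⟩, fun β => ?_⟩
    · refine isInv_of_le_invGroup ?_
      rw [hgen]
      refine sup_le (le_invGroup (fun t ht => hSH t (hTS ht)) (hg₁.inv _)) ?_
      exact Subgroup.zpowers_le.2 ⟨hsH, hnat s hsH hsT _ _ (hg₂.inv β s (Subgroup.mem_zpowers s))⟩
    · obtain ⟨δ, rfl⟩ := hg₁.surj χ (hχ.mono hTS)
      obtain ⟨δ', hδ'⟩ := exists_isConjBy (hH₁ ▸ centralizer_normalises hsH hsT) δ
      have hδ : g₁ δ' = g₁ δ := Subtype.ext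
        (IsConjBy.eq hsH (hnat s hsH hsT δ δ' hδ') (hχ s s₀.2))
      rw [hg₁.inj hδ] at hδ'
      have hn : Normalises s H₁ := hH₁ ▸ centralizer_normalises hsH hsT
      obtain ⟨β, rfl⟩ := hg₂.surj δ (isInv_zpowers_of hn hδ')
      exact ⟨β, rfl⟩
    · have key : ∀ γ : IrrCharacter E,
          ((charMult (resSub hEH (g₁ (g₂ β) : H → ℂ)) (γ : E → ℂ) : ℕ) : ZMod p) =
            (charMult (resSub h₁ (g₁ (g₂ β) : H → ℂ)) (g₂ β : H₁ → ℂ) : ZMod p) *
              (charMult (resSub h₂ (g₂ β : H₁ → ℂ)) (γ : E → ℂ) : ZMod p) := by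
        intro γ
        rw [charMult_trans h₁ h₂ (Chars.irr_isCharacter _) γ]
        push_cast
        refine Finset.sum_eq_single (g₂ β) (fun δ _ hne => ?_) (fun h => absurd (Finset.mem_univ _) h)
        rw [(ZMod.natCast_eq_zero_iff _ _).2 ((hg₁.cong (g₂ β)).2 δ hne), zero_mul]
      refine ⟨?_, fun γ hne => ?_⟩
      · have cast1 : ∀ (m : ℕ) (z : ℤ), ((m : ℤ) ≡ z [ZMOD p]) ↔ (m : ZMod p) = (z : ZMod p) :=
          fun m z => by rw [← ZMod.intCast_eq_intCast_iff]; simp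
        show ((charMult (resSub hEH (g₁ (g₂ β) : H → ℂ)) (β : E → ℂ) : ℤ) ≡ 1 [ZMOD p]) ∨ _
        simp only [Function.comp_apply, cast1, key β]
        rcases (hg₁.cong (g₂ β)).1 with h | h <;> rcases (hg₂.cong β).1 with h' | h' <;>
          rw [cast1] at h h' <;> simp [h, h']
      · show p ∣ charMult (resSub hEH (g₁ (g₂ β) : H → ℂ)) (γ : E → ℂ)
        rw [← ZMod.natCast_eq_zero_iff, key γ,
          (ZMod.natCast_eq_zero_iff _ _).2 ((hg₂.cong β).2 γ hne), mul_zero]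
  refine ⟨f₁ ∘ f₂, f₁' ∘ f₂', hcompose G G₁ C inf_le_left hCG₁ hCG f₁ f₂ hSG rfl hf₁ hf₂,
    hcompose N N₁ D inf_le_left hDN₁ hDN f₁' f₂' hSN rfl hf₁' hf₂', fun β α h => hcomp₁ _ _ ?_⟩
  refine isCompat_of_step (p := p) (s := s) hpG₁ hN₁G₁ hDC ?_ hsN₁ hsG₁
    (fun g hg => hsp₁ g (hN₁G₁ hg)) hCG₁ hDN₁
    (fun d hd => Subgroup.mem_centralizer_iff.1 (hD ▸ hd : d ∈ N ⊓ _).2 s s₀.2) hf₂ hf₂' β α h
  intro c hc d hd
  rw [hD]
  exact ⟨hNn c (hCG hc) d (hDN hd), Subgroup.mul_mem _ (Subgroup.mul_mem _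
    ((hC ▸ hc : c ∈ G ⊓ _)).2 ((hD ▸ hd : d ∈ N ⊓ _)).2) (inv_mem ((hC ▸ hc : c ∈ G ⊓ _)).2)⟩

/-- The Glauberman correspondence for a `p`-group acting on a `p'`-group. -/
theorem exists_pCorr (p : ℕ) [Fact p.Prime] (hS : IsPGroup p S) (hCG : C ≤ G)
    (hSG : ∀ s ∈ S, Normalises s G) (hpG : ¬ p ∣ Nat.card G)
    (hC : C = G ⊓ Subgroup.centralizer (S : Set Γ)) : ∃ f, IsPCorr p S G C hCG f := by
  obtain ⟨f, -, hf, -, -⟩ := exists_pCorr_pair p S hS G G C C le_rfl le_rfl hCG hCG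
    (fun g hg n hn => G.mul_mem (G.mul_mem hg hn) (G.inv_mem hg)) hSG hSG hpG hC hC
  exact ⟨f, hf⟩

end Cfsg.Agent.Lib.Glauberman
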