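import Mathlib
import Cfsg.Agent.Lib.Glauberman.PGroup

/-!
# The Glauberman correspondence for solvable groups of operators
-/

set_option autoImplicit false

namespace Cfsg.Agent.Lib.Glauberman

open Cfsg
open Cfsg.Agent.Lib
open scoped ComplexConjugate

variable {Γ : Type*} [Group Γ] [Finite Γ] {G C N D S T : Subgroup Γ}

/-- A nontrivial solvable subgroup is a product of a proper subgroup, normalised by everything
normalising the whole, and a `p`-subgroup. -/
theorem exists_split (S : Subgroup Γ) (hsol : Group.IsSolvable S) (hS : S ≠ ⊥) :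
    ∃ (p : ℕ) (T P : Subgroup Γ), p.Prime ∧ p ∣ Nat.card S ∧ IsPGroup p P ∧ P ≤ S ∧ T ⊔ P = S ∧
      Nat.card T < Nat.card S ∧ ∀ γ, Normalises γ S → Normalises γ T := by
  haveI : Nontrivial S := (Subgroup.nontrivial_iff_ne_bot S).2 hS
  haveI := hsol
  have hA : 1 < Nat.card (Abelianization S) := by
    have h := Group.IsSolvable.commutator_lt_top_of_nontrivial (G := S)
    have h1 : (commutator S).index ≠ 1 := fun e => h.ne (Subgroup.index_eq_one.1 e)
    have h0 : (commutator S).index ≠ 0 := Subgroup.index_ne_zero_of_finite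
    show 1 < Nat.card (S ⧸ commutator S)
    rw [← Subgroup.index_eq_card]
    omega
  obtain ⟨p, hp, hpA⟩ := Nat.exists_prime_and_dvd hA.ne'
  haveI : Fact p.Prime := ⟨hp⟩
  let T₀ : Subgroup S := (powMonoidHom p : Abelianization S →* Abelianization S).range.comap
    Abelianization.of
  have hmem : ∀ g : S, g ∈ T₀ ↔ ∃ y : Abelianization S, y ^ p = Abelianization.of g := fun g => by
    simp [T₀, MonoidHom.mem_range]
  have hne : T₀ ≠ ⊤ := by
    intro h
    have hsurj : Function.Surjective (fun y : Abelianization S => y ^ p) := by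
      intro y
      obtain ⟨g, rfl⟩ := QuotientGroup.mk_surjective y
      exact (hmem g).1 (h ▸ Subgroup.mem_top g)
    obtain ⟨z, hz⟩ := exists_prime_orderOf_dvd_card' (G := Abelianization S) p hpA
    have : z = 1 := (Finite.injective_iff_surjective.2 hsurj) (by
      show z ^ p = (1 : Abelianization S) ^ p
      rw [one_pow, ← hz, pow_orderOf_eq_one])
    rw [this, orderOf_one] at hz
    exact hp.one_lt.ne hz
  have hpow : ∀ g : S, g ^ p ∈ T₀ := fun g => (hmem _).2 ⟨Abelianization.of g, (map_pow _ _ _).symm⟩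
  haveI hT₀n : T₀.Normal := Subgroup.Normal.comap inferInstance _
  have hQ : IsPGroup p (S ⧸ T₀) := fun q => ⟨1, by
    obtain ⟨g, rfl⟩ := QuotientGroup.mk_surjective q
    rw [pow_one, ← QuotientGroup.mk_pow, QuotientGroup.eq_one_iff]
    exact hpow g⟩
  obtain ⟨e, he⟩ := IsPGroup.iff_card.1 hQ
  obtain ⟨P₀⟩ := (inferInstance : Nonempty (Sylow p S))
  have hjoin : T₀ ⊔ (P₀ : Subgroup S) = ⊤ := by
    rw [← Subgroup.index_eq_one]
    have h1 : (T₀ ⊔ (P₀ : Subgroup S)).index ∣ p ^ e := by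
      rw [← he, ← Subgroup.index_eq_card]
      exact Subgroup.index_dvd_of_le le_sup_left
    have h2 : (T₀ ⊔ (P₀ : Subgroup S)).index ∣ (P₀ : Subgroup S).index :=
      Subgroup.index_dvd_of_le le_sup_right
    have h3 : (p ^ e).Coprime (P₀ : Subgroup S).index :=
      ((hp.coprime_iff_not_dvd).2 P₀.not_dvd_index).pow_left e
    exact Nat.eq_one_of_dvd_coprimes h3 h1 h2
  refine ⟨p, T₀.map S.subtype, (P₀ : Subgroup S).map S.subtype, hp, ?_, P₀.isPGroup'.map _,
    Subgroup.map_subtype_le _, ?_, ?_, ?_⟩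
  · exact hpA.trans (Subgroup.card_quotient_dvd_card _)
  · rw [← Subgroup.map_sup, hjoin, ← MonoidHom.range_eq_map, Subgroup.range_subtype]
  · rw [Subgroup.card_map_of_injective S.subtype_injective]
    refine lt_of_le_of_ne (Subgroup.card_le_card_group T₀) fun h => hne ?_
    exact Subgroup.eq_top_of_card_eq T₀ h
  · intro γ hγ
    refine normalises_of_mem ?_
    rintro _ ⟨t, ht, rfl⟩
    refine ⟨conjEquiv hγ t, ?_, rfl⟩
    obtain ⟨y, hy⟩ := (hmem t).1 ht
    refine (hmem _).2 ⟨Abelianization.map (conjEquiv hγ).toMonoidHom y, ?_⟩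
    rw [← map_pow, hy, Abelianization.map_of]
    rfl

/-- `id` is a correspondence for the trivial group. -/
theorem isCorr_bot_id (G : Subgroup Γ) :
    IsCorr ⊥ G G id ∧ IsNatural ⊥ G G id := by
  refine ⟨⟨Function.injective_id, fun β t ht g g' hg => ?_, fun χ _ => ⟨χ, rfl⟩⟩,
    fun γ _ _ β β' h => h⟩
  rw [Subgroup.mem_bot] at ht
  have : g' = g := Subtype.ext (by rw [hg, ht]; simp)
  rw [this]

/-- A function on a subgroup centralised by `T` is `T`-invariant. -/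
theorem isInv_of_le_centralizer (h : G ≤ Subgroup.centralizer (T : Set Γ)) (χ : G → ℂ) :
    IsInv T χ := fun t ht g g' hg => by
  have : g' = g := Subtype.ext (by
    rw [hg, Subgroup.mem_centralizer_iff.1 (h g.2) t ht, mul_inv_cancel_right])
  rw [this]

/-- Composition of a correspondence for `T` and one for a `p`-group `P`. -/
theorem isCorr_comp {p : ℕ} [Fact p.Prime] {P H H₁ E : Subgroup Γ} (hTS : T ≤ S) (hPS : P ≤ S)
    (hgen : T ⊔ P = S) (hchar : ∀ γ, Normalises γ S → Normalises γ T)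
    (hSH : ∀ t ∈ S, Normalises t H) (hSS : ∀ t ∈ S, Normalises t S)
    (hH₁ : H₁ = H ⊓ Subgroup.centralizer (T : Set Γ))
    (hE : E = H ⊓ Subgroup.centralizer (S : Set Γ)) (hEH₁ : E ≤ H₁)
    {g₁ : IrrCharacter H₁ → IrrCharacter H} {g₂ : IrrCharacter E → IrrCharacter H₁}
    (hg₁ : IsCorr T H H₁ g₁) (hn₁ : IsNatural T H H₁ g₁) (hg₂ : IsPCorr p P H₁ E hEH₁ g₂) :
    IsCorr S H E (g₁ ∘ g₂) ∧ IsNatural S H E (g₁ ∘ g₂) := by
  have hPH₁ : ∀ x ∈ P, Normalises x H₁ := fun x hx =>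
    hH₁ ▸ centralizer_normalises (hSH x (hPS hx)) (hchar x (hSS x (hPS hx)))
  refine ⟨⟨hg₁.inj.comp hg₂.inj, fun β => ?_, fun χ hχ => ?_⟩, ?_⟩
  · refine isInv_of_le_invGroup ?_
    rw [← hgen]
    refine sup_le (le_invGroup (fun t ht => hSH t (hTS ht)) (hg₁.inv _)) fun x hx => ?_
    exact ⟨hSH x (hPS hx), hn₁ x (hSH x (hPS hx)) (hchar x (hSS x (hPS hx))) _ _
      (hg₂.inv β x hx)⟩
  · obtain ⟨δ, rfl⟩ := hg₁.surj χ (hχ.mono hTS)
    have hδ : IsInv P (δ : H₁ → ℂ) := by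
      intro x hx
      obtain ⟨δ', hδ'⟩ := exists_isConjBy (hPH₁ x hx) δ
      have h := hn₁ x (hSH x (hPS hx)) (hchar x (hSS x (hPS hx))) δ δ' hδ'
      have h' : g₁ δ' = g₁ δ := Subtype.ext
        (IsConjBy.eq (hSH x (hPS hx)) h (hχ x (hPS hx)))
      rw [hg₁.inj h'] at hδ'
      exact hδ'
    obtain ⟨β, rfl⟩ := hg₂.surj δ hδ
    exact ⟨β, rfl⟩
  · intro γ hγH hγS β β' hβ
    refine hn₁ γ hγH (hchar γ hγS) _ _ ?_
    have hγH₁ : Normalises γ H₁ := hH₁ ▸ centralizer_normalises hγH (hchar γ hγS)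
    have hγE : Normalises γ E := hE ▸ centralizer_normalises hγH hγS
    have hSH₁ : ∀ t ∈ S, Normalises t H₁ := fun t ht =>
      hH₁ ▸ centralizer_normalises (hSH t ht) (hchar t (hSS t ht))
    obtain ⟨δ', hδ'⟩ := exists_isConjBy hγH₁ (g₂ β)
    have hinvS : IsInv S (g₂ β : H₁ → ℂ) := by
      refine isInv_of_le_invGroup ?_
      rw [← hgen]
      exact sup_le (le_invGroup (fun t ht => hSH₁ t (hTS ht))
        (isInv_of_le_centralizer (hH₁ ▸ inf_le_right) _)) (le_invGroup hPH₁ (hg₂.inv β))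
    obtain ⟨β'', rfl⟩ := hg₂.surj δ' ((IsInv.of_conjBy hγH₁ hγS hSH₁ hδ' hinvS).mono hPS)
    have : ¬ p ∣ charMult (resSub hEH₁ (g₂ β'' : H₁ → ℂ)) (β' : E → ℂ) := by
      rw [charMult_conjBy hγH₁ hγE hEH₁ hδ' hβ]
      exact hg₂.not_dvd β
    rw [hg₂.eq_of_not_dvd this]
    exact hδ'

/-- The Glauberman correspondence for solvable groups of operators, for `G` and a normal
subgroup `N` at once. -/
theorem exists_corr_pair :
    ∀ (S : Subgroup Γ), Group.IsSolvable S → ∀ (G N C D : Subgroup Γ) (hNG : N ≤ G) (hDC : D ≤ C),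
      (∀ g ∈ G, ∀ n ∈ N, g * n * g⁻¹ ∈ N) → (∀ s ∈ S, Normalises s G) →
      (∀ s ∈ S, Normalises s N) → (Nat.card G).Coprime (Nat.card S) →
      C = G ⊓ Subgroup.centralizer (S : Set Γ) → D = N ⊓ Subgroup.centralizer (S : Set Γ) →
      ∃ f f', IsCorr S G C f ∧ IsCorr S N D f' ∧ IsNatural S G C f ∧ IsNatural S N D f' ∧
        IsCompat hNG hDC f f' := by
  intro S
  induction hk : Nat.card S using Nat.strong_induction_on generalizing S with | _ k ih => ?_
  intro hsol G N C D hNG hDC hNn hSG hSN hcop hC hD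
  subst hk
  by_cases hbot : S = ⊥
  · subst hbot
    have hc : Subgroup.centralizer ((⊥ : Subgroup Γ) : Set Γ) = ⊤ :=
      Subgroup.centralizer_eq_top_iff_subset.2 (by simp)
    rw [hc, inf_top_eq] at hC hD
    subst hC hD
    exact ⟨id, id, (isCorr_bot_id _).1, (isCorr_bot_id _).1, (isCorr_bot_id _).2,
      (isCorr_bot_id _).2, fun β α h => h⟩
  obtain ⟨p, T, P, hp, hpS, hPp, hPS, hgen, hlt, hchar⟩ := exists_split S hsol hbot
  haveI : Fact p.Prime := ⟨hp⟩
  have hTS : T ≤ S := hgen ▸ le_sup_left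
  haveI := hsol
  have hTsol : Group.IsSolvable T :=
    Group.isSolvable_of_isSolvable_injective (Subgroup.inclusion_injective hTS)
  have hSS : ∀ t ∈ S, Normalises t S := fun t ht => normalises_of_mem fun g hg =>
    S.mul_mem (S.mul_mem ht hg) (S.inv_mem ht)
  set G₁ := G ⊓ Subgroup.centralizer (T : Set Γ) with hG₁
  set N₁ := N ⊓ Subgroup.centralizer (T : Set Γ) with hN₁
  have hN₁G₁ : N₁ ≤ G₁ := inf_le_inf_right _ hNG
  obtain ⟨f₁, f₁', hf₁, hf₁', hn₁, hn₁', hcomp₁⟩ := ih _ hlt T rfl hTsol G N G₁ N₁ hNG hN₁G₁ hNn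
    (fun t ht => hSG t (hTS ht)) (fun t ht => hSN t (hTS ht))
    (hcop.coprime_dvd_right (Subgroup.card_dvd_of_le hTS)) rfl rfl
  have hsplit : ∀ (H : Subgroup Γ), H ⊓ Subgroup.centralizer (T : Set Γ) ⊓
      Subgroup.centralizer (P : Set Γ) = H ⊓ Subgroup.centralizer (S : Set Γ) := by
    intro H
    refine le_antisymm (fun x hx => ⟨hx.1.1, ?_⟩)
      (le_inf (inf_le_inf_left _ (Subgroup.centralizer_le hTS))
        (inf_le_right.trans (Subgroup.centralizer_le hPS)))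
    have hle : T ⊔ P ≤ Subgroup.centralizer ({x} : Set Γ) :=
      sup_le (fun t ht => Subgroup.mem_centralizer_singleton_iff.2
        (Subgroup.mem_centralizer_iff.1 hx.1.2 t ht))
        (fun t ht => Subgroup.mem_centralizer_singleton_iff.2
        (Subgroup.mem_centralizer_iff.1 hx.2 t ht))
    rw [hgen] at hle
    exact Subgroup.mem_centralizer_iff.2 fun t ht =>
      Subgroup.mem_centralizer_singleton_iff.1 (hle ht)
  have hCG₁ : C ≤ G₁ := by
    rw [hC, ← hsplit G]; exact inf_le_left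
  have hDN₁ : D ≤ N₁ := by
    rw [hD, ← hsplit N]; exact inf_le_left
  have hpG₁ : ¬ p ∣ Nat.card G₁ := fun h => hp.not_dvd_one
    (hcop ▸ Nat.dvd_gcd (h.trans (Subgroup.card_dvd_of_le inf_le_left)) hpS)
  obtain ⟨f₂, f₂', hf₂, hf₂', hcomp₂⟩ := exists_pCorr_pair p P hPp G₁ N₁ C D hN₁G₁ hDC hCG₁ hDN₁
    (fun g hg n hn => ⟨hNn g hg.1 n hn.1,
      Subgroup.mul_mem _ (Subgroup.mul_mem _ hg.2 hn.2) (inv_mem hg.2)⟩)
    (fun x hx => centralizer_normalises (hSG x (hPS hx)) (hchar x (hSS x (hPS hx))))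
    (fun x hx => centralizer_normalises (hSN x (hPS hx)) (hchar x (hSS x (hPS hx))))
    hpG₁ (hC.trans (hsplit G).symm) (hD.trans (hsplit N).symm)
  obtain ⟨hA, hA'⟩ := isCorr_comp hTS hPS hgen hchar hSG hSS rfl hC hCG₁ hf₁ hn₁ hf₂
  obtain ⟨hB, hB'⟩ := isCorr_comp hTS hPS hgen hchar hSN hSS rfl hD hDN₁ hf₁' hn₁' hf₂'
  exact ⟨f₁ ∘ f₂, f₁' ∘ f₂', hA, hB, hA', hB', fun β α h => hcomp₁ _ _ (hcomp₂ β α h)⟩

/-- The Glauberman correspondence for a solvable group of operators. -/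
theorem exists_corr (hS : Group.IsSolvable S) (hSG : ∀ s ∈ S, Normalises s G)
    (hcop : (Nat.card G).Coprime (Nat.card S))
    (hC : C = G ⊓ Subgroup.centralizer (S : Set Γ)) :
    ∃ f, IsCorr S G C f ∧ IsNatural S G C f := by
  obtain ⟨f, -, hf, -, hn, -, -⟩ := exists_corr_pair S hS G G C C le_rfl le_rfl
    (fun g hg n hn => G.mul_mem (G.mul_mem hg hn) (G.inv_mem hg)) hSG hSG hcop hC hC
  exact ⟨f, hf, hn⟩

/-- The number of invariant characters. -/
theorem card_invariant_eq (hS : Group.IsSolvable S) (hSG : ∀ s ∈ S, Normalises s G)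
    (hcop : (Nat.card G).Coprime (Nat.card S))
    (hC : C = G ⊓ Subgroup.centralizer (S : Set Γ)) :
    Nat.card {χ : IrrCharacter G // IsInv S (χ : G → ℂ)} = Nat.card (IrrCharacter C) := by
  obtain ⟨f, hf, -⟩ := exists_corr hS hSG hcop hC
  refine (Nat.card_eq_of_bijective (fun β => (⟨f β, hf.inv β⟩ : {χ : IrrCharacter G // IsInv S (χ : G → ℂ)}))
    ⟨fun a b h => hf.inj (congrArg Subtype.val h), fun χ => ?_⟩).symm
  obtain ⟨β, hβ⟩ := hf.surj χ.1 χ.2
  exact ⟨β, Subtype.ext hβ⟩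

end Cfsg.Agent.Lib.Glauberman
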