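import Mathlib
import Cfsg.Agent.Lib.Glauberman.Cyclic
import Cfsg.Agent.Lib.Glauberman.Solvable

/-!
# The Glauberman correspondence for a cyclic group of operators

The values of canonical extensions on `C × S`.
-/

set_option autoImplicit false

namespace Cfsg.Agent.Lib.Glauberman

open Cfsg
open Cfsg.Agent.Lib
open scoped ComplexConjugate

/-- Integers minimising the variance: all but one are equal. -/
theorem int_variance {ι : Type*} [Fintype ι] (k : ι → ℤ) :
    0 ≤ (Fintype.card ι : ℤ) * ∑ i, k i ^ 2 - (∑ i, k i) ^ 2 ∧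
    ((∀ i j, k i = k j) → (Fintype.card ι : ℤ) * ∑ i, k i ^ 2 - (∑ i, k i) ^ 2 = 0) ∧
    ((¬ ∀ i j, k i = k j) →
      (Fintype.card ι : ℤ) - 1 ≤ (Fintype.card ι : ℤ) * ∑ i, k i ^ 2 - (∑ i, k i) ^ 2 ∧
      ((Fintype.card ι : ℤ) * ∑ i, k i ^ 2 - (∑ i, k i) ^ 2 = (Fintype.card ι : ℤ) - 1 →
        ∃ (i₀ : ι) (e a : ℤ), (e = 1 ∨ e = -1) ∧ (∀ i, i ≠ i₀ → k i = a) ∧ k i₀ = a + e)) := by
  classical
  refine ⟨?_, fun h => ?_, fun h => ?_⟩
  · have := Finset.sum_mul_sq_le_sq_mul_sq Finset.univ (fun _ => (1 : ℤ)) k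
    simp only [one_mul, one_pow, Finset.sum_const, Finset.card_univ, nsmul_eq_mul, mul_one] at this
    linarith
  · rcases isEmpty_or_nonempty ι with he | ⟨⟨i⟩⟩
    · simp
    · rw [Finset.sum_congr rfl fun j _ => h j i,
        Finset.sum_congr rfl fun j _ => show k j ^ 2 = k i ^ 2 by rw [h j i]]
      simp [Finset.sum_const]; ring
  push Not at h
  obtain ⟨i₁, i₂, hne⟩ := h
  haveI : Nonempty ι := ⟨i₁⟩
  obtain ⟨im, him⟩ := Finite.exists_min k
  let j : ι → ℤ := fun i => k i - k im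
  have hj0 : ∀ i, 0 ≤ j i := fun i => sub_nonneg.2 (him i)
  set T := Finset.univ.filter fun i => j i ≠ 0 with hT
  have hA : ∑ i, j i = ∑ i ∈ T, j i := (Finset.sum_filter_ne_zero _).symm
  have hB : ∑ i, j i ^ 2 = ∑ i ∈ T, j i ^ 2 := by
    rw [hT, ← Finset.sum_filter_ne_zero (f := fun i => j i ^ 2)]
    refine Finset.sum_congr (Finset.filter_congr fun i _ => ?_) fun i _ => rfl
    simp
  set n : ℤ := (Fintype.card ι : ℤ) with hn
  set r : ℤ := (T.card : ℤ) with hr
  have hCS : (∑ i ∈ T, j i) ^ 2 ≤ r * ∑ i ∈ T, j i ^ 2 := sq_sum_le_card_mul_sum_sq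
  have hge : r ≤ ∑ i ∈ T, j i ^ 2 := by
    rw [hr, Finset.cast_card]
    refine Finset.sum_le_sum fun i hi => ?_
    have := (Finset.mem_filter.1 hi).2
    have h1 : 1 ≤ j i := by have := hj0 i; omega
    exact one_le_pow₀ h1
  have hr1 : 1 ≤ r := by
    have : T.Nonempty := by
      by_cases h1 : k i₁ = k im
      · exact ⟨i₂, Finset.mem_filter.2 ⟨Finset.mem_univ _,
          fun e => hne (h1.trans (sub_eq_zero.1 e).symm)⟩⟩
      · exact ⟨i₁, Finset.mem_filter.2 ⟨Finset.mem_univ _, fun e => h1 (sub_eq_zero.1 e)⟩⟩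
    rw [hr]; exact_mod_cast this.card_pos
  have hrn : r ≤ n - 1 := by
    have : T.card < Fintype.card ι :=
      Finset.card_lt_univ_of_notMem (x := im) (by simp [hT, j])
    rw [hr, hn]; omega
  have hshift : n * ∑ i, k i ^ 2 - (∑ i, k i) ^ 2 = n * ∑ i, j i ^ 2 - (∑ i, j i) ^ 2 := by
    simp only [j, sub_sq, Finset.sum_sub_distrib, Finset.sum_add_distrib, Finset.sum_const,
      Finset.card_univ, nsmul_eq_mul, ← Finset.sum_mul, ← Finset.mul_sum]
    rw [hn]; ring
  have hB' : (n - r) * r ≤ (n - r) * ∑ i ∈ T, j i ^ 2 :=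
    mul_le_mul_of_nonneg_left hge (by omega)
  have hmain : (n - r) * ∑ i ∈ T, j i ^ 2 ≤ n * ∑ i, k i ^ 2 - (∑ i, k i) ^ 2 := by
    rw [hshift, hA, hB]; linarith
  have hp : 0 ≤ (r - 1) * (n - 1 - r) := mul_nonneg (by omega) (by omega)
  refine ⟨by linarith, fun hD => ?_⟩
  have e1 : (r - 1) * (n - 1 - r) = 0 := by linarith
  have e2 : ∑ i ∈ T, j i ^ 2 = r := by
    have h1 : (n - r) * ∑ i ∈ T, j i ^ 2 ≤ (n - r) * r := by linarith
    exact le_antisymm (le_of_mul_le_mul_left h1 (by omega)) hge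
  have hone : ∀ i ∈ T, j i = 1 := by
    intro i hi
    have h1 : ∀ i ∈ T, (1 : ℤ) ≤ j i ^ 2 := fun i hi => by
      have := (Finset.mem_filter.1 hi).2
      exact one_le_pow₀ (show 1 ≤ j i by have := hj0 i; omega)
    have h2 : ∑ i ∈ T, (1 : ℤ) = ∑ i ∈ T, j i ^ 2 := by rw [e2, hr, Finset.cast_card]
    have h3 : j i ^ 2 = 1 := ((Finset.sum_eq_sum_iff_of_le h1).1 h2 i hi).symm
    rcases sq_eq_one_iff.1 h3 with h4 | h4
    · exact h4
    · have := hj0 i; omega
  rcases mul_eq_zero.1 e1 with h1 | h1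
  · obtain ⟨i₀, hi₀⟩ := Finset.card_eq_one.1 (show T.card = 1 by omega)
    refine ⟨i₀, 1, k im, Or.inl rfl, fun i hi => ?_, ?_⟩
    · have : i ∉ T := by rw [hi₀]; simpa using hi
      simp only [hT, Finset.mem_filter, Finset.mem_univ, true_and, not_not] at this
      exact sub_eq_zero.1 this
    · have := hone i₀ (by rw [hi₀]; simp)
      simp only [j] at this
      omega
  · have hTc : T = Finset.univ.erase im := by
      refine Finset.eq_of_subset_of_card_le (fun i hi => Finset.mem_erase.2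
        ⟨fun e => (Finset.mem_filter.1 hi).2 (by simp [j, e]), Finset.mem_univ _⟩) ?_
      rw [Finset.card_erase_of_mem (Finset.mem_univ _), Finset.card_univ]
      omega
    refine ⟨im, -1, k im + 1, Or.inr rfl, fun i hi => ?_, by ring⟩
    have := hone i (by rw [hTc]; simp [hi])
    simp only [j] at this
    omega

/-- Orthogonality of the linear characters of a finite abelian group. -/
theorem sum_hom_apply {A : Type*} [Group A] [Finite A] [IsMulCommutative A]
    [Fintype (A →* ℂˣ)] [DecidableEq A] (y : A) :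
    ∑ l : A →* ℂˣ, (l y : ℂ) = if y = 1 then (Nat.card A : ℂ) else 0 := by
  letI : CommGroup A :=
    { (inferInstance : Group A) with mul_comm := IsMulCommutative.is_comm.comm }
  split_ifs with h
  · subst h
    simp only [map_one, Units.val_one, Finset.sum_const, Finset.card_univ, nsmul_eq_mul, mul_one]
    rw [← Nat.card_eq_fintype_card, CommGroup.card_monoidHom_of_hasEnoughRootsOfUnity A ℂ]
  · obtain ⟨φ, hφ⟩ := CommGroup.exists_apply_ne_one_of_hasEnoughRootsOfUnity (G := A) ℂ (a := y) h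
    have e := Fintype.sum_equiv (Equiv.mulLeft φ) (fun l : A →* ℂˣ => (((φ * l) y : ℂˣ) : ℂ))
      (fun l => (l y : ℂ)) fun l => rfl
    simp only [MonoidHom.mul_apply, Units.val_mul, ← Finset.mul_sum] at e
    by_contra hne
    exact hφ (Units.ext (mul_right_cancel₀ hne (e.trans (one_mul _).symm)))

variable {Γ : Type*} [Group Γ] [Finite Γ] {G S C : Subgroup Γ}

/-- The multiplicity of `γ` in the coset function of `x`. -/
noncomputable def coef (χh : Γ → ℂ) (γ : C → ℂ) (x : Γ) : ℂ :=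
  haveI := Fintype.ofFinite C
  classInner (fun c : C => χh ((c : Γ) * x)) γ

theorem coef_eq [Fintype C] (χh : Γ → ℂ) (γ : C → ℂ) (x : Γ) :
    coef χh γ x = classInner (fun c : C => χh ((c : Γ) * x)) γ := by
  unfold coef
  congr 1
  exact Subsingleton.elim _ _

theorem isClassFunction_coset {χh : Γ → ℂ} (hχ : Cfsg.IsClassFunction Γ χh) {x : Γ}
    (hx : ∀ c : C, (c : Γ) * x = x * c) : Cfsg.IsClassFunction C (fun c : C => χh ((c : Γ) * x)) := by
  intro c k
  show χh (((k * c * k⁻¹ : C) : Γ) * x) = χh ((c : Γ) * x)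
  rw [← hχ ((c : Γ) * x) (k : Γ)]
  congr 1
  simp only [Subgroup.coe_mul, Subgroup.coe_inv, mul_assoc]
  rw [show x * ((k : Γ))⁻¹ = ((k : Γ))⁻¹ * x from (hx k⁻¹).symm]

/-- Fourier expansion of the coefficients along `S`. -/
theorem exists_fourier [IsMulCommutative S] [Fintype (S →* ℂˣ)]
    (hCS : ∀ c ∈ C, ∀ s ∈ S, c * s = s * c) {χh : Γ → ℂ} (hχ : Cfsg.IsCharacter Γ χh)
    (γ : IrrCharacter C) :
    ∃ k : (S →* ℂˣ) → ℕ, ∀ x : S, coef χh (γ : C → ℂ) x = ∑ l, (k l : ℂ) * (l x : ℂ) := by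
  classical
  haveI : Fintype C := Fintype.ofFinite C
  haveI : Fintype S := Fintype.ofFinite S
  let j : C × S →* Γ :=
    { toFun := fun p => (p.1 : Γ) * p.2
      map_one' := by simp
      map_mul' := fun p q => by
        show (p.1 : Γ) * q.1 * ((p.2 : Γ) * q.2) = (p.1 : Γ) * p.2 * ((q.1 : Γ) * q.2)
        rw [mul_assoc (p.1 : Γ), ← mul_assoc (q.1 : Γ), hCS q.1 q.1.2 p.2 p.2.2]
        simp [mul_assoc] }
  have hψ : ∀ l : S →* ℂˣ, Cfsg.IsCharacter (C × S)
      (fun p : C × S => (γ : C → ℂ) p.1 * (l p.2 : ℂ)) := fun l =>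
    Chars.isCharacter_mul (Chars.isCharacter_comp (MonoidHom.fst C S) (Chars.irr_isCharacter γ))
      (Chars.isCharacter_hom (l.comp (MonoidHom.snd C S)))
  have hk : ∀ l : S →* ℂˣ, ∃ k : ℕ, classInner (fun p => χh (j p))
      (fun p : C × S => (γ : C → ℂ) p.1 * (l p.2 : ℂ)) = k := fun l =>
    Chars.isCharacter_classInner_nat (Chars.isCharacter_comp j hχ) (hψ l)
  choose k hk using hk
  refine ⟨k, fun x => ?_⟩
  simp only [← hk]
  rw [coef_eq]
  unfold classInner
  simp only [Fintype.sum_prod_type, Finset.mul_sum, Finset.sum_mul]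
  rw [Finset.sum_comm (γ := S →* ℂˣ)]
  refine Finset.sum_congr rfl fun c _ => ?_
  rw [Finset.sum_comm (γ := S →* ℂˣ)]
  have hterm : ∀ y : S, ∑ l : S →* ℂˣ,
      (Nat.card (C × S) : ℂ)⁻¹ * (χh (j (c, y)) * conj ((γ : C → ℂ) c * (l y : ℂ))) * (l x : ℂ) =
      (Nat.card (C × S) : ℂ)⁻¹ * (χh ((c : Γ) * y) * conj ((γ : C → ℂ) c)) *
        (if y⁻¹ * x = 1 then (Nat.card S : ℂ) else 0) := by
    intro y
    rw [← sum_hom_apply (y⁻¹ * x), Finset.mul_sum]
    refine Finset.sum_congr rfl fun l _ => ?_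
    have hc : conj (l y : ℂ) = (((l y)⁻¹ : ℂˣ) : ℂ) := by
      rw [Units.val_inv_eq_inv_val, Complex.inv_def, Complex.normSq_eq_norm_sq,
        Chars.norm_hom_apply]
      simp
    rw [map_mul, map_mul, map_inv, Units.val_mul, hc]
    show _ * (χh ((c : Γ) * y) * _) * _ = _
    ring
  rw [Finset.sum_congr rfl fun y _ => hterm y,
    Finset.sum_eq_single x (fun y _ hy => by
      rw [if_neg fun e => hy (inv_mul_eq_one.1 e), mul_zero])
    (fun h => absurd (Finset.mem_univ _) h), if_pos (inv_mul_cancel x), Nat.card_prod,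
    Nat.cast_mul, mul_inv]
  have hS0 : (Nat.card S : ℂ) ≠ 0 := Nat.cast_ne_zero.2 Nat.card_pos.ne'
  field_simp

/-- The norm of the coset function. -/
theorem coset_norm [Fintype C] [G.Normal] {x : Γ}
    (hx : (orderOf x).Coprime (Nat.card G)) (hC : C = G ⊓ Subgroup.centralizer ({x} : Set Γ))
    {χh χh' : IrrCharacter Γ} {χ χ' : IrrCharacter G}
    (h : ∀ g : G, (χh : Γ → ℂ) g = (χ : G → ℂ) g) (h' : ∀ g : G, (χh' : Γ → ℂ) g = (χ' : G → ℂ) g)
    (hsame : χ = χ' → χh = χh') [Decidable (χ = χ')] :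
    classInner (fun c : C => (χh : Γ → ℂ) ((c : Γ) * x)) (fun c : C => (χh' : Γ → ℂ) ((c : Γ) * x))
      = if χ = χ' then 1 else 0 := by
  haveI : Fintype G := Fintype.ofFinite G
  have hF : Cfsg.IsClassFunction Γ (fun z => (χh : Γ → ℂ) z * conj ((χh' : Γ → ℂ) z)) := fun z k => by
    show _ * _ = _ * _
    rw [Chars.irr_isClassFunction χh z k, Chars.irr_isClassFunction χh' z k]
  rw [← coset_orth h h' hsame x]
  have e := coset_sum hx hC hF
  have hC0 : (Nat.card C : ℂ) ≠ 0 := Nat.cast_ne_zero.2 Nat.card_pos.ne'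
  have hG0 : (Nat.card G : ℂ) ≠ 0 := Nat.cast_ne_zero.2 Nat.card_pos.ne'
  unfold classInner
  field_simp
  linear_combination e

/-- Setting of a cyclic group of operators. -/
structure CycSetting (G S C : Subgroup Γ) : Prop where
  normal : G.Normal
  cyc : IsCyclic S
  top : G ⊔ S = ⊤
  cop : (Nat.card G).Coprime (Nat.card S)
  cent : C = G ⊓ Subgroup.centralizer (S : Set Γ)

theorem cycSetting (hnorm : ∀ s ∈ S, ∀ g ∈ G, s * g * s⁻¹ ∈ G)
    (hcop : (Nat.card G).Coprime (Nat.card S)) (htop : G ⊔ S = ⊤) (hcyc : IsCyclic S)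
    (hC : C = G ⊓ Subgroup.centralizer (S : Set Γ)) : CycSetting G S C := by
  refine ⟨?_, hcyc, htop, hcop, hC⟩
  rw [← Subgroup.normalizer_eq_top_iff, eq_top_iff, ← htop]
  exact sup_le Subgroup.le_normalizer fun s hs =>
    Subgroup.mem_normalizer_iff.2 (normalises_of_subgroup hnorm hs)

namespace CycSetting

variable (h : CycSetting G S C)

include h

theorem comm : ∀ c ∈ C, ∀ s ∈ S, c * s = s * c := fun c hc s hs =>
  (Subgroup.mem_centralizer_iff.1 (h.cent.le hc).2 s hs).symm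

theorem isMulComm : IsMulCommutative S := by
  haveI := h.cyc
  exact ⟨⟨fun a b => (IsCyclic.commGroup (α := S)).mul_comm a b⟩⟩

theorem disjoint : Disjoint G S :=
  Subgroup.disjoint_def.2 fun {x} hxG hxS => orderOf_eq_one_iff.1 (Nat.eq_one_of_dvd_coprimes h.cop
    (Subgroup.orderOf_coe (⟨x, hxG⟩ : G) ▸ orderOf_dvd_natCard _)
    (Subgroup.orderOf_coe (⟨x, hxS⟩ : S) ▸ orderOf_dvd_natCard _))

theorem index_eq : G.index = Nat.card S := by
  haveI := h.normal
  have e := Subgroup.relIndex_sup_right (K := G) (H := S)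
  rw [sup_comm, h.top, Subgroup.relIndex_top_right] at e
  rw [e, Subgroup.relIndex, Subgroup.subgroupOf_eq_bot.2 h.disjoint, Subgroup.index_bot]

theorem index_cop : G.index.Coprime (Nat.card G) := h.index_eq ▸ h.cop.symm

theorem order_cop {x : Γ} (hx : x ∈ S) : (orderOf x).Coprime (Nat.card G) :=
  h.cop.symm.coprime_dvd_left (Subgroup.orderOf_coe (⟨x, hx⟩ : S) ▸ orderOf_dvd_natCard _)

theorem inv_all {χ : G → ℂ} (hχ : Cfsg.IsClassFunction G χ) (hinv : IsInv S χ) (y : Γ) (g : G) :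
    χ ⟨y * g * y⁻¹, h.normal.conj_mem g g.2 y⟩ = χ g := by
  have hle : (⊤ : Subgroup Γ) ≤ invGroup χ := by
    rw [← h.top]
    exact sup_le (fun x hx => ⟨normalises_of_mem fun z hz => h.normal.conj_mem z hz x,
      isConjBy_self_of_class hχ hx⟩)
      (le_invGroup (fun s _ => normalises_of_mem fun z hz => h.normal.conj_mem z hz s) hinv)
  exact (hle (Subgroup.mem_top y)).2 g _ rfl
where
  isConjBy_self_of_class {χ : G → ℂ} (hχ : Cfsg.IsClassFunction G χ) {x : Γ} (hx : x ∈ G) :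
      IsConjBy x χ χ := fun g g' hg => by
    have : g' = (⟨x, hx⟩ : G) * g * (⟨x, hx⟩ : G)⁻¹ := Subtype.ext hg
    rw [this]
    exact hχ g _

variable {χ : IrrCharacter G} {χh : IrrCharacter Γ}
  (hext : ∀ g : G, (χh : Γ → ℂ) g = (χ : G → ℂ) g)
  (hd : (detOrder (χh : Γ → ℂ)).Coprime (Nat.card S))

include hext hd

theorem coef_pow (γ : C → ℂ) {x : Γ} (hx : x ∈ S) {k : ℕ} (hk : k.Coprime (Nat.card S)) :
    coef (χh : Γ → ℂ) γ (x ^ k) = coef (χh : Γ → ℂ) γ x := by
  haveI := h.normal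
  haveI : Fintype C := Fintype.ofFinite C
  obtain ⟨k', h1, h2⟩ : ∃ k' : ℕ, k' ≡ k [MOD Nat.card S] ∧ k' ≡ 1 [MOD Nat.card G] :=
    ⟨_, (Nat.chineseRemainder h.cop.symm k 1).2.1, (Nat.chineseRemainder h.cop.symm k 1).2.2⟩
  have hk' : k'.Coprime (Nat.card Γ) := by
    rw [← G.card_mul_index, h.index_eq]
    refine Nat.Coprime.mul_right ?_ ?_
    · show Nat.gcd k' _ = 1
      rw [h2.gcd_eq, Nat.gcd_one_left]
    · show Nat.gcd k' _ = 1
      rw [h1.gcd_eq]; exact hk
  rw [coef_eq, coef_eq]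
  congr 1
  funext c
  have e : ((c : Γ) * x) ^ k' = (c : Γ) * x ^ k := by
    rw [Commute.mul_pow (h.comm c c.2 x hx)]
    congr 1
    · conv_rhs => rw [← pow_one (c : Γ)]
      refine pow_eq_pow_iff_modEq.2 (h2.of_dvd ?_)
      have hcG : (c : Γ) ∈ G := (h.cent.le c.2).1
      exact Subgroup.orderOf_coe (⟨c, hcG⟩ : G) ▸ orderOf_dvd_natCard _
    · exact pow_eq_pow_iff_modEq.2
        (h1.of_dvd (Subgroup.orderOf_coe (⟨x, hx⟩ : S) ▸ orderOf_dvd_natCard _))
  rw [← e]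
  exact canonical_pow h.index_cop hext (h.index_eq.symm ▸ hd) hk' h2 _

theorem parseval [Fintype C] {x : Γ} (hx : x ∈ S) (hxC : C = G ⊓ Subgroup.centralizer ({x} : Set Γ)) :
    ∑ γ : IrrCharacter C, coef (χh : Γ → ℂ) (γ : C → ℂ) x *
      conj (coef (χh : Γ → ℂ) (γ : C → ℂ) x) = 1 := by
  classical
  haveI := h.normal
  have hcl := isClassFunction_coset (C := C) (Chars.irr_isClassFunction χh)
    (x := x) (fun c => h.comm c c.2 x hx)
  simp only [coef_eq]
  rw [← Chars.classInner_eq_sum_mul_conj hcl hcl,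
    coset_norm (h.order_cop hx) hxC hext hext (fun _ => rfl), if_pos rfl]

theorem coef_int (γ : IrrCharacter C) {s : Γ} (hs : s ∈ S) :
    ∃ z : ℤ, coef (χh : Γ → ℂ) (γ : C → ℂ) s = z := by
  classical
  haveI := h.isMulComm
  haveI : Finite (S →* ℂˣ) := Finite.of_injective _ Chars.linIrr_injective
  haveI : Fintype (S →* ℂˣ) := Fintype.ofFinite _
  obtain ⟨k, hk⟩ := exists_fourier h.comm (Chars.irr_isCharacter χh) γ
  have hroot : ∀ l : S →* ℂˣ, ((l ⟨s, hs⟩ : ℂˣ) : ℂ) ^ Nat.card S = 1 := fun l => by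
    rw [← Units.val_pow_eq_pow_val, ← map_pow, pow_card_eq_one', map_one, Units.val_one]
  have hint : ∀ l : S →* ℂˣ, IsIntegral ℤ ((l ⟨s, hs⟩ : ℂˣ) : ℂ) := fun l =>
    IsIntegral.of_pow Nat.card_pos (by rw [hroot l]; exact isIntegral_one)
  have hi : IsIntegral ℤ (coef (χh : Γ → ℂ) (γ : C → ℂ) s) := by
    rw [show s = ((⟨s, hs⟩ : S) : Γ) from rfl, hk]
    refine IsIntegral.sum _ fun l _ => IsIntegral.mul ?_ (hint l)
    exact isIntegral_natCast (k l)
  let b : (S →* ℂˣ) → GaloisPos.QBar := fun l => ⟨_, GaloisPos.mem_qbar_of_isIntegral (hint l)⟩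
  let a : GaloisPos.QBar := ∑ l : S →* ℂˣ, (k l : GaloisPos.QBar) * b l
  have ha : (a : ℂ) = coef (χh : Γ → ℂ) (γ : C → ℂ) s := by
    rw [GaloisPos.coe_qbar_sum, show s = ((⟨s, hs⟩ : S) : Γ) from rfl, hk]
    exact Finset.sum_congr rfl fun l _ => by simp [b]
  obtain ⟨z, hz⟩ := GaloisPos.exists_int_of_fixed a (ha ▸ hi) (fun ψ => by
    obtain ⟨m, hm, hψ⟩ := GaloisPos.exists_pow_action (Nat.card S) Nat.card_pos ψ
    have e : ψ a = coef (χh : Γ → ℂ) (γ : C → ℂ) (s ^ m) := by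
      rw [map_sum, show s ^ m = ((⟨s, hs⟩ ^ m : S) : Γ) from rfl, hk]
      refine Finset.sum_congr rfl fun l _ => ?_
      rw [map_mul, map_natCast, hψ _ _ (hroot l), map_pow, Units.val_pow_eq_pow_val]
    rw [e, h.coef_pow hext hd _ hs hm, ha])
  exact ⟨z, ha ▸ hz⟩

/-- The character of `C` attached to `χ` at a generator. -/
theorem exists_beta {s : Γ} (hs : Subgroup.zpowers s = S) :
    ∃ (β : IrrCharacter C) (ε : ℤ), (ε = 1 ∨ ε = -1) ∧
      ∀ (c : C) (t : Γ), Subgroup.zpowers t = S →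
        (χh : Γ → ℂ) ((c : Γ) * t) = (ε : ℂ) * (β : C → ℂ) c := by
  classical
  haveI : Fintype C := Fintype.ofFinite C
  have hsS : s ∈ S := hs ▸ Subgroup.mem_zpowers s
  have hsC : C = G ⊓ Subgroup.centralizer ({s} : Set Γ) := by
    rw [h.cent, ← hs, Subgroup.zpowers_eq_closure, Subgroup.centralizer_closure]
  choose z hz using fun γ : IrrCharacter C => h.coef_int hext hd γ hsS
  have hsum : ∑ γ, z γ ^ 2 = 1 := by
    have := h.parseval hext hd hsS hsC
    simp only [hz, map_intCast] at this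
    have h2 : ((∑ γ, z γ ^ 2 : ℤ) : ℂ) = 1 := by
      push_cast
      rw [← this]
      exact Finset.sum_congr rfl fun γ _ => by ring
    exact_mod_cast h2
  obtain ⟨β, hβ⟩ : ∃ β, z β ≠ 0 := by
    by_contra hall
    push Not at hall
    simp [hall] at hsum
  have hrest : z β ^ 2 = 1 ∧ ∀ γ, γ ≠ β → z γ = 0 := by
    rw [← Finset.add_sum_erase _ _ (Finset.mem_univ β)] at hsum
    have h1 : 1 ≤ z β ^ 2 := by
      have := sq_nonneg (z β); have := pow_ne_zero 2 hβ; omega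
    have h2 : 0 ≤ ∑ γ ∈ Finset.univ.erase β, z γ ^ 2 := Finset.sum_nonneg fun γ _ => sq_nonneg _
    refine ⟨by omega, fun γ hne => ?_⟩
    exact pow_eq_zero_iff two_ne_zero |>.1 ((Finset.sum_eq_zero_iff_of_nonneg
      fun γ _ => sq_nonneg (z γ)).1 (by omega) γ (Finset.mem_erase.2 ⟨hne, Finset.mem_univ _⟩))
  refine ⟨β, z β, sq_eq_one_iff.1 hrest.1, fun c t ht => ?_⟩
  have hts : t ∈ Subgroup.zpowers s := hs ▸ ht ▸ Subgroup.mem_zpowers t
  obtain ⟨k, rfl⟩ := mem_powers_iff_mem_zpowers.2 hts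
  have hk : k.Coprime (Nat.card S) := by
    have e : orderOf (s ^ k) = orderOf s := by
      rw [← Nat.card_zpowers, ← Nat.card_zpowers, hs]
      exact congrArg (fun H : Subgroup Γ => Nat.card H) ht
    rw [← hs, Nat.card_zpowers]
    rw [orderOf_pow] at e
    exact (Nat.div_eq_self.1 e).resolve_left (orderOf_pos s).ne' |> fun g =>
      (Nat.coprime_comm.1 g)
  have hcl := isClassFunction_coset (C := C) (Chars.irr_isClassFunction χh)
    (x := s ^ k) (fun d => h.comm d d.2 _ (S.pow_mem hsS k))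
  refine (Chars.isClassFunction_apply_eq_sum_classInner hcl c).trans ?_
  simp only [← coef_eq, h.coef_pow hext hd _ hsS hk, hz]
  rw [Finset.sum_eq_single β (fun γ _ hne => by rw [hrest.2 γ hne, Int.cast_zero, zero_mul])
    (fun h' => absurd (Finset.mem_univ _) h')]

/-- That character is a constituent of the restriction. -/
theorem beta_constituent [Fintype C] (hCG : C ≤ G) {s : Γ} (hsS : s ∈ S) (β : IrrCharacter C)
    {ε : ℤ} (hε : ε ≠ 0) (hβ : ∀ c : C, (χh : Γ → ℂ) ((c : Γ) * s) = (ε : ℂ) * (β : C → ℂ) c) :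
    classInner (resSub hCG (χ : G → ℂ)) (β : C → ℂ) ≠ 0 := by
  classical
  haveI := h.isMulComm
  haveI : Finite (S →* ℂˣ) := Finite.of_injective _ Chars.linIrr_injective
  haveI : Fintype (S →* ℂˣ) := Fintype.ofFinite _
  obtain ⟨k, hk⟩ := exists_fourier h.comm (Chars.irr_isCharacter χh) β
  intro h0
  have h1 : coef (χh : Γ → ℂ) (β : C → ℂ) 1 = 0 := by
    rw [coef_eq, ← h0]
    congr 1
    funext c
    rw [mul_one]
    exact hext ⟨c, hCG c.2⟩
  have h2 : ∀ l, k l = 0 := by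
    intro l
    have := hk 1
    simp only [OneMemClass.coe_one, h1, map_one, Units.val_one, mul_one] at this
    have h3 : ((∑ l, k l : ℕ) : ℂ) = 0 := by push_cast; exact this.symm
    exact Finset.sum_eq_zero_iff.1 (Nat.cast_eq_zero.1 h3) l (Finset.mem_univ _)
  have h4 : coef (χh : Γ → ℂ) (β : C → ℂ) s = 0 := by
    rw [show s = ((⟨s, hsS⟩ : S) : Γ) from rfl, hk]
    exact Finset.sum_eq_zero fun l _ => by rw [h2 l, Nat.cast_zero, zero_mul]
  rw [coef_eq, show (fun c : C => (χh : Γ → ℂ) ((c : Γ) * s)) = (ε : ℂ) • (β : C → ℂ) from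
    funext hβ, Chars.classInner_smul_left, Chars.classInner_irr_self, mul_one] at h4
  exact hε (by exact_mod_cast h4)

end CycSetting

end Cfsg.Agent.Lib.Glauberman
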