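import Mathlib
import Cfsg.Agent.Lib.Glauberman.Bridge
import Cfsg.Agent.Lib.Coprime.Glauberman

/-!
# The action on characters, invariant constituents below
-/

set_option autoImplicit false

namespace Cfsg.Agent.Lib.Glauberman

open Cfsg
open Cfsg.Agent.Lib

variable {Γ : Type*} [Group Γ] [Finite Γ] {G N S : Subgroup Γ}

/-- The elements normalising `N`. -/
def normGroup (N : Subgroup Γ) : Subgroup Γ where
  carrier := {γ | Normalises γ N}
  one_mem' := fun g => by simp
  mul_mem' := fun ha hb => ha.mul hb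
  inv_mem' := fun ha => ha.inv

omit [Finite Γ] in
theorem isConjBy_refl_one (θ : N → ℂ) : IsConjBy 1 θ θ := fun g g' hg => by
  rw [Subtype.ext (by simpa using hg : (g' : Γ) = g)]

/-- Conjugation on irreducible characters. -/
noncomputable instance irrMulAction (N : Subgroup Γ) :
    MulAction (normGroup N) (IrrCharacter N) where
  smul γ θ := (exists_isConjBy (γ.2 : Normalises (γ : Γ) N) θ).choose
  one_smul θ := Subtype.ext (IsConjBy.eq ((1 : normGroup N).2 : Normalises ((1 : normGroup N) : Γ) N)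
    (exists_isConjBy ((1 : normGroup N).2 : Normalises ((1 : normGroup N) : Γ) N) θ).choose_spec
    (isConjBy_refl_one _))
  mul_smul a b θ := Subtype.ext (IsConjBy.eq ((a * b).2 : Normalises ((a * b : normGroup N) : Γ) N)
    (exists_isConjBy ((a * b).2 : Normalises ((a * b : normGroup N) : Γ) N) θ).choose_spec
    (IsConjBy.trans (b.2 : Normalises (b : Γ) N) (exists_isConjBy (b.2 : Normalises (b : Γ) N) θ).choose_spec
      (exists_isConjBy (a.2 : Normalises (a : Γ) N) _).choose_spec))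

theorem smul_irr_spec (γ : normGroup N) (θ : IrrCharacter N) :
    IsConjBy (γ : Γ) (θ : N → ℂ) ((γ • θ : IrrCharacter N) : N → ℂ) :=
  (exists_isConjBy (γ.2 : Normalises (γ : Γ) N) θ).choose_spec

theorem smul_irr_eq (γ : normGroup N) {θ φ : IrrCharacter N}
    (h : IsConjBy (γ : Γ) (θ : N → ℂ) (φ : N → ℂ)) : γ • θ = φ :=
  Subtype.ext (IsConjBy.eq (γ.2 : Normalises (γ : Γ) N) (smul_irr_spec γ θ) h)

omit [Finite Γ] in
theorem isConjBy_self_of_mem {χ : G → ℂ} (hχ : Cfsg.IsClassFunction G χ) {g : Γ} (hg : g ∈ G) :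
    IsConjBy g χ χ := fun x x' hx => by
  have : x' = (⟨g, hg⟩ : G) * x * (⟨g, hg⟩ : G)⁻¹ := Subtype.ext hx
  rw [this]
  exact hχ x ⟨g, hg⟩

/-- Invariant characters have invariant constituents on an invariant normal subgroup of coprime
index. -/
theorem exists_invariant_below (hNG : N ≤ G) (hNn : ∀ g ∈ G, ∀ n ∈ N, g * n * g⁻¹ ∈ N)
    (hSG : ∀ s ∈ S, ∀ g ∈ G, s * g * s⁻¹ ∈ G) (hSN : ∀ s ∈ S, ∀ n ∈ N, s * n * s⁻¹ ∈ N)
    [(N.subgroupOf G).Normal] (hcop : (N.relIndex G).Coprime (Nat.card S))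
    (hsolv : Group.IsSolvable S ∨ Group.IsSolvable (G ⧸ N.subgroupOf G))
    (χ : IrrCharacter G) (hinv : IsInv S (χ : G → ℂ)) :
    ∃ θ : IrrCharacter N, charMult (resSub hNG (χ : G → ℂ)) (θ : N → ℂ) ≠ 0 ∧
      IsInv S (θ : N → ℂ) := by
  let X := {θ : IrrCharacter N // charMult (resSub hNG (χ : G → ℂ)) (θ : N → ℂ) ≠ 0}
  let ιG : G →* normGroup N := Subgroup.inclusion fun g hg => normalises_of_mem (hNn g hg)
  let ιS : S →* normGroup N := Subgroup.inclusion fun s hs => normalises_of_mem (hSN s hs)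
  have hGX : ∀ (g : G) (x : X),
      charMult (resSub hNG (χ : G → ℂ)) ((ιG g • x.1 : IrrCharacter N) : N → ℂ) ≠ 0 := fun g x => by
    rw [charMult_conjBy (normalises_of_mem fun y hy => G.mul_mem (G.mul_mem g.2 hy) (G.inv_mem g.2))
      (ιG g).2 hNG (isConjBy_self_of_mem (Chars.irr_isClassFunction χ) g.2)
      (show IsConjBy (g : Γ) (x.1 : N → ℂ) _ from smul_irr_spec (ιG g) x.1)]
    exact x.2
  have hSX : ∀ (s : S) (x : X),
      charMult (resSub hNG (χ : G → ℂ)) ((ιS s • x.1 : IrrCharacter N) : N → ℂ) ≠ 0 := fun s x => by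
    rw [charMult_conjBy (normalises_of_subgroup hSG s.2) (ιS s).2 hNG (hinv s s.2)
      (show IsConjBy (s : Γ) (x.1 : N → ℂ) _ from smul_irr_spec (ιS s) x.1)]
    exact x.2
  letI : MulAction G X :=
    { smul := fun g x => ⟨ιG g • x.1, hGX g x⟩
      one_smul := fun x => Subtype.ext (by show ιG 1 • x.1 = x.1; rw [map_one, one_smul])
      mul_smul := fun a b x => Subtype.ext (by
        show ιG (a * b) • x.1 = ιG a • ιG b • x.1; rw [map_mul, mul_smul]) }
  letI : MulAction S X :=
    { smul := fun g x => ⟨ιS g • x.1, hSX g x⟩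
      one_smul := fun x => Subtype.ext (by show ιS 1 • x.1 = x.1; rw [map_one, one_smul])
      mul_smul := fun a b x => Subtype.ext (by
        show ιS (a * b) • x.1 = ιS a • ιS b • x.1; rw [map_mul, mul_smul]) }
  have htriv : N.subgroupOf G ≤ (MulAction.toPermHom G X).ker := by
    intro n hn
    refine Equiv.ext fun x => Subtype.ext ?_
    show ιG n • x.1 = x.1
    exact smul_irr_eq _ (isConjBy_self_of_mem (Chars.irr_isClassFunction x.1) hn)
  letI : MulAction (G ⧸ N.subgroupOf G) X :=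
    MulAction.compHom X (QuotientGroup.lift (N.subgroupOf G) (MulAction.toPermHom G X) htriv)
  have hq : ∀ (g : G) (x : X), (g : G ⧸ N.subgroupOf G) • x = g • x := fun g x => rfl
  have hSN' : S ≤ Subgroup.normalizer (G : Set Γ) := fun s hs =>
    Subgroup.mem_normalizer_iff.2 (normalises_of_subgroup hSG hs)
  have hmap : ∀ s : S, (N.subgroupOf G).map
      (Coprime.conjAut hSN' s : G ≃* G).toMonoidHom = N.subgroupOf G := by
    intro s
    refine le_antisymm ?_ fun g hg => ⟨(Coprime.conjAut hSN' s).symm g, ?_, by simp⟩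
    · rintro _ ⟨g, hg, rfl⟩
      show ((Coprime.conjAut hSN' s g : G) : Γ) ∈ N
      rw [Coprime.conjAut_coe]
      exact hSN s s.2 _ hg
    · show (((Coprime.conjAut hSN' s).symm g : G) : Γ) ∈ N
      have h : ((Coprime.conjAut hSN' s).symm g : G) = Coprime.conjAut hSN' s⁻¹ g := by
        rw [map_inv]; rfl
      rw [h, Coprime.conjAut_coe]
      exact hSN _ (s⁻¹).2 _ hg
  let φ : S →* MulAut (G ⧸ N.subgroupOf G) :=
    { toFun := fun s => QuotientGroup.congr _ _ (Coprime.conjAut hSN' s) (hmap s)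
      map_one' := MulEquiv.ext fun q => by
        induction q using QuotientGroup.induction_on with | H g => ?_
        simp [QuotientGroup.congr_mk]
      map_mul' := fun a b => MulEquiv.ext fun q => by
        induction q using QuotientGroup.induction_on with | H g => ?_
        simp [QuotientGroup.congr_mk]
        rfl }
  have compat : ∀ (s : S) (k : G ⧸ N.subgroupOf G) (x : X), s • k • x = φ s k • s • x := by
    intro s k x
    induction k using QuotientGroup.induction_on with | H g => ?_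
    show s • g • x = ((Coprime.conjAut hSN' s g : G) : G ⧸ N.subgroupOf G) • s • x
    rw [hq]
    refine Subtype.ext ?_
    show ιS s • ιG g • x.1 = ιG (Coprime.conjAut hSN' s g) • ιS s • x.1
    rw [← mul_smul, ← mul_smul]
    congr 1
    refine Subtype.ext ?_
    show (s : Γ) * g = (Coprime.conjAut hSN' s g : G) * (s : Γ)
    rw [Coprime.conjAut_coe]; simp
  obtain ⟨θ₀, hθ₀⟩ := exists_below hNG χ
  haveI : Nonempty X := ⟨⟨θ₀, hθ₀⟩⟩
  have htr : MulAction.IsPretransitive (G ⧸ N.subgroupOf G) X := ⟨fun x y => by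
    obtain ⟨g, hg, hgc⟩ := exists_conj_of_constituent hNG hNn χ x.1 y.1 x.2 y.2
    exact ⟨(⟨g, hg⟩ : G), (hq _ _).trans (Subtype.ext (smul_irr_eq _ hgc))⟩⟩
  obtain ⟨x, hx⟩ := Coprime.exists_fixed_point φ compat
    (show (Nat.card S).Coprime (Nat.card (G ⧸ N.subgroupOf G)) from hcop.symm) hsolv htr
  refine ⟨x.1, x.2, fun s hs => ?_⟩
  have h : ιS ⟨s, hs⟩ • x.1 = x.1 := congrArg Subtype.val (hx ⟨s, hs⟩)
  have h2 := smul_irr_spec (ιS ⟨s, hs⟩) x.1
  rw [h] at h2
  exact h2

end Cfsg.Agent.Lib.Glauberman
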