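import Mathlib
import Cfsg.Agent.Lib.Glauberman.Action
import Cfsg.Agent.Lib.Clifford.Basic

/-!
# Invariant constituents above, for a solvable quotient of coprime order
-/

set_option autoImplicit false

namespace Cfsg.Agent.Lib.Glauberman

open Cfsg
open Cfsg.Agent.Lib
open scoped ComplexConjugate

variable {Γ : Type*} [Group Γ] [Finite Γ] {G N S : Subgroup Γ}

theorem classInner_resSub_ne_zero [Fintype N] (hNG : N ≤ G) (θ : IrrCharacter N)
    {χ χ' : IrrCharacter G}
    (h : charMult (resSub hNG (χ : G → ℂ)) (θ : N → ℂ) ≠ 0)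
    (h' : charMult (resSub hNG (χ' : G → ℂ)) (θ : N → ℂ) ≠ 0) :
    classInner (resSub hNG (χ : G → ℂ)) (resSub hNG (χ' : G → ℂ)) ≠ 0 := by
  classical
  have hc := isCharacter_resSub hNG (Chars.irr_isCharacter χ)
  have hc' := isCharacter_resSub hNG (Chars.irr_isCharacter χ')
  have e : classInner (resSub hNG (χ : G → ℂ)) (resSub hNG (χ' : G → ℂ)) =
      ((∑ φ : IrrCharacter N, charMult (resSub hNG (χ : G → ℂ)) (φ : N → ℂ) *
        charMult (resSub hNG (χ' : G → ℂ)) (φ : N → ℂ) : ℕ) : ℂ) := by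
    conv_lhs => arg 1; rw [eq_sum_charMult hc]
    rw [Chars.classInner_sum_left]
    push_cast
    refine Finset.sum_congr rfl fun φ _ => ?_
    rw [Chars.classInner_smul_left, ← Chars.conj_classInner,
      charMult_spec hc' (Chars.irr_isCharacter φ), map_natCast]
  rw [e, Nat.cast_ne_zero]
  intro h0
  rcases Nat.mul_eq_zero.1 (Finset.sum_eq_zero_iff.1 h0 θ (Finset.mem_univ _)) with h1 | h1
  · exact h h1
  · exact h' h1

/-- Multiplication of an irreducible character by a linear one. -/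
theorem isIrr_mul_hom (χ : IrrCharacter G) (l : G →* ℂˣ) :
    IsIrrCharacter G (fun g => (χ : G → ℂ) g * (l g : ℂ)) := by
  haveI : Fintype G := Fintype.ofFinite G
  have hl : ∀ g, (l g : ℂ) * conj (l g : ℂ) = 1 := fun g => by
    have h1 : (l g : ℂ) ^ Nat.card G = 1 := by
      rw [← Units.val_pow_eq_pow_val, ← map_pow, pow_card_eq_one', map_one, Units.val_one]
    rw [Complex.mul_conj, Complex.normSq_eq_norm_sq,
      Complex.norm_eq_one_of_pow_eq_one h1 Nat.card_pos.ne']
    norm_num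
  have hc : Cfsg.IsCharacter G (fun g => (χ : G → ℂ) g * (l g : ℂ)) :=
    Chars.isCharacter_mul (Chars.irr_isCharacter χ)
      (Clifford.isCharacter_of_isIrr (Clifford.isIrrCharacter_hom l))
  rw [Chars.isIrrCharacter_iff_classInner_eq_one hc, ← Chars.classInner_irr_self χ]
  unfold classInner
  refine congrArg _ (Finset.sum_congr rfl fun g _ => ?_)
  rw [map_mul, mul_mul_mul_comm, hl, mul_one]

/-- Linear characters of `G` trivial on `N`. -/
def linOver (N G : Subgroup Γ) : Subgroup (G →* ℂˣ) where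
  carrier := {l | ∀ g : G, (g : Γ) ∈ N → l g = 1}
  one_mem' := fun _ _ => rfl
  mul_mem' := fun ha hb g hg => by rw [MonoidHom.mul_apply, ha g hg, hb g hg, mul_one]
  inv_mem' := fun ha g hg => by rw [MonoidHom.inv_apply, ha g hg, inv_one]

/-- For an abelian quotient, the characters over a given one differ by linear characters. -/
theorem exists_lin_mul_eq (hNG : N ≤ G) [(N.subgroupOf G).Normal]
    (hab : ∀ a ∈ G, ∀ b ∈ G, a * b * a⁻¹ * b⁻¹ ∈ N) (θ : IrrCharacter N)
    (χ χ' : IrrCharacter G) (h : charMult (resSub hNG (χ : G → ℂ)) (θ : N → ℂ) ≠ 0)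
    (h' : charMult (resSub hNG (χ' : G → ℂ)) (θ : N → ℂ) ≠ 0) :
    ∃ l ∈ linOver N G, (fun g => (χ : G → ℂ) g * ((l : G →* ℂˣ) g : ℂ)) = (χ' : G → ℂ) := by
  classical
  haveI : Fintype G := Fintype.ofFinite G
  haveI : Fintype N := Fintype.ofFinite N
  letI : CommGroup (G ⧸ N.subgroupOf G) :=
    { (inferInstance : Group (G ⧸ N.subgroupOf G)) with
      mul_comm := fun p q => by
        induction p using QuotientGroup.induction_on with | H a => ?_
        induction q using QuotientGroup.induction_on with | H b => ?_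
        rw [← QuotientGroup.mk_mul, ← QuotientGroup.mk_mul, QuotientGroup.eq]
        show ((a : Γ) * b)⁻¹ * ((b : Γ) * a) ∈ N
        simpa [mul_assoc] using hab _ (G.inv_mem b.2) _ (G.inv_mem a.2) }
  haveI : Finite (linOver N G) := by
    haveI : Finite (G →* ℂˣ) := by
      haveI : Finite (IrrCharacter G) := inferInstance
      refine Finite.of_injective
        (fun l : G →* ℂˣ => (⟨fun g => (l g : ℂ), Clifford.isIrrCharacter_hom l⟩ : IrrCharacter G))
        fun a b hab => MonoidHom.ext fun g => Units.ext (congrFun (congrArg Subtype.val hab) g)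
    infer_instance
  haveI : Fintype (linOver N G) := Fintype.ofFinite _
  have hsum : ∀ g : G, ∑ l : linOver N G, (((l : G →* ℂˣ) g : ℂˣ) : ℂ) =
      if (g : Γ) ∈ N then (Fintype.card (linOver N G) : ℂ) else 0 := by
    intro g
    split_ifs with hg
    · rw [Finset.sum_congr rfl fun (l : linOver N G) _ =>
        show (((l : G →* ℂˣ) g : ℂˣ) : ℂ) = 1 by rw [l.2 g hg, Units.val_one]]
      simp
    · obtain ⟨φ, hφ⟩ := CommGroup.exists_apply_ne_one_of_hasEnoughRootsOfUnity
        (G := G ⧸ N.subgroupOf G) ℂ (a := (g : G ⧸ N.subgroupOf G))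
        (fun e => hg ((QuotientGroup.eq_one_iff g).1 e))
      let l₀ : linOver N G := ⟨φ.comp (QuotientGroup.mk' _), fun x hx => by
        rw [MonoidHom.comp_apply, QuotientGroup.mk'_apply, (QuotientGroup.eq_one_iff x).2 hx,
          map_one]⟩
      have hl₀ : (((l₀ : G →* ℂˣ) g : ℂˣ) : ℂ) ≠ 1 := fun e => hφ (Units.ext e)
      have e := Fintype.sum_equiv (Equiv.mulLeft l₀)
        (fun l => (((l₀ * l : linOver N G) : G →* ℂˣ) g : ℂ))
        (fun l => (((l : G →* ℂˣ) g : ℂˣ) : ℂ)) fun l => rfl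
      simp only [Subgroup.coe_mul, MonoidHom.mul_apply, Units.val_mul, ← Finset.mul_sum] at e
      by_contra hne
      exact hl₀ (mul_right_cancel₀ hne (e.trans (one_mul _).symm))
  have key : ∃ l : linOver N G,
      classInner (fun g => (χ : G → ℂ) g * ((l : G →* ℂˣ) g : ℂ)) (χ' : G → ℂ) ≠ 0 := by
    by_contra hall
    push Not at hall
    have h0 : ∑ l : linOver N G,
        classInner (fun g => (χ : G → ℂ) g * ((l : G →* ℂˣ) g : ℂ)) (χ' : G → ℂ) = 0 :=
      Finset.sum_eq_zero fun l _ => hall l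
    unfold classInner at h0
    rw [← Finset.mul_sum, Finset.sum_comm, mul_eq_zero, inv_eq_zero, Nat.cast_eq_zero] at h0
    rcases h0 with h0 | h0
    · exact Nat.card_pos.ne' h0
    have h1 : ∑ g : G, (if (g : Γ) ∈ N then
        (χ : G → ℂ) g * conj ((χ' : G → ℂ) g) else 0) = 0 := by
      have h2 : (Fintype.card (linOver N G) : ℂ) * ∑ g : G, (if (g : Γ) ∈ N then
          (χ : G → ℂ) g * conj ((χ' : G → ℂ) g) else 0) = 0 := by
        refine Eq.trans ?_ h0
        rw [Finset.mul_sum]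
        refine Finset.sum_congr rfl fun g _ => ?_
        rw [← Finset.sum_mul, ← Finset.mul_sum, hsum]
        split_ifs <;> ring
      rcases mul_eq_zero.1 h2 with h3 | h3
      · exact absurd (Nat.cast_eq_zero.1 h3) Fintype.card_ne_zero
      · exact h3
    apply classInner_resSub_ne_zero hNG θ h h'
    unfold classInner
    rw [← Finset.sum_filter] at h1
    have h4 : ∑ n : N, resSub hNG (χ : G → ℂ) n * conj (resSub hNG (χ' : G → ℂ) n) = 0 := by
      rw [← h1]
      refine Finset.sum_bij (fun n _ => (⟨n, hNG n.2⟩ : G))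
        (fun n _ => by simp) (fun a _ b _ e => Subtype.ext (congrArg (fun x : G => (x : Γ)) e))
        (fun g hg => ⟨⟨g, (Finset.mem_filter.1 hg).2⟩, Finset.mem_univ _, rfl⟩) fun n _ => rfl
    rw [h4, mul_zero]
  obtain ⟨l, hl⟩ := key
  refine ⟨l, l.2, ?_⟩
  by_contra hne
  exact hl (Chars.classInner_irr_of_ne (χ := ⟨_, isIrr_mul_hom χ _⟩) (ψ := χ')
    fun e => hne (congrArg Subtype.val e))

/-- The abelian case. -/
theorem exists_invariant_above_abelian (hNG : N ≤ G) [(N.subgroupOf G).Normal]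
    (hab : ∀ a ∈ G, ∀ b ∈ G, a * b * a⁻¹ * b⁻¹ ∈ N)
    (hSG : ∀ s ∈ S, ∀ g ∈ G, s * g * s⁻¹ ∈ G) (hSN : ∀ s ∈ S, ∀ n ∈ N, s * n * s⁻¹ ∈ N)
    (hcop : (N.relIndex G).Coprime (Nat.card S))
    (θ : IrrCharacter N) (hinv : IsInv S (θ : N → ℂ)) :
    ∃ χ : IrrCharacter G, charMult (resSub hNG (χ : G → ℂ)) (θ : N → ℂ) ≠ 0 ∧
      IsInv S (χ : G → ℂ) := by
  classical
  haveI : Fintype G := Fintype.ofFinite G
  let X := {χ : IrrCharacter G // charMult (resSub hNG (χ : G → ℂ)) (θ : N → ℂ) ≠ 0}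
  let ιS : S →* normGroup G := Subgroup.inclusion fun s hs => normalises_of_mem (hSG s hs)
  have hSX : ∀ (s : S) (x : X),
      charMult (resSub hNG ((ιS s • x.1 : IrrCharacter G) : G → ℂ)) (θ : N → ℂ) ≠ 0 := fun s x => by
    rw [charMult_conjBy (ιS s).2 (normalises_of_subgroup hSN s.2) hNG
      (show IsConjBy (s : Γ) (x.1 : G → ℂ) _ from smul_irr_spec (ιS s) x.1) (hinv s s.2)]
    exact x.2
  letI : MulAction S X :=
    { smul := fun g x => ⟨ιS g • x.1, hSX g x⟩
      one_smul := fun x => Subtype.ext (by show ιS 1 • x.1 = x.1; rw [map_one, one_smul])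
      mul_smul := fun a b x => Subtype.ext (by
        show ιS (a * b) • x.1 = ιS a • ιS b • x.1; rw [map_mul, mul_smul]) }
  have hlX : ∀ (l : linOver N G) (x : X),
      resSub hNG (fun g => (x.1 : G → ℂ) g * ((l : G →* ℂˣ) g : ℂ)) = resSub hNG (x.1 : G → ℂ) :=
    fun l x => funext fun n => by
      show (x.1 : G → ℂ) _ * _ = (x.1 : G → ℂ) _
      rw [l.2 ⟨n, hNG n.2⟩ n.2, Units.val_one, mul_one]
  letI : MulAction (linOver N G) X :=
    { smul := fun l x => ⟨⟨_, isIrr_mul_hom x.1 l⟩, by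
        show charMult (resSub hNG (fun g => (x.1 : G → ℂ) g * ((l : G →* ℂˣ) g : ℂ))) _ ≠ 0
        rw [hlX]; exact x.2⟩
      one_smul := fun x => Subtype.ext (Subtype.ext (funext fun g => by
        show (x.1 : G → ℂ) g * ((1 : ℂˣ) : ℂ) = _
        rw [Units.val_one, mul_one]))
      mul_smul := fun a b x => Subtype.ext (Subtype.ext (funext fun g => by
        show (x.1 : G → ℂ) g * (((a : G →* ℂˣ) g * (b : G →* ℂˣ) g : ℂˣ) : ℂ) =
          (x.1 : G → ℂ) g * ((b : G →* ℂˣ) g : ℂ) * ((a : G →* ℂˣ) g : ℂ)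
        rw [Units.val_mul]; ring)) }
  have hSN' : S ≤ Subgroup.normalizer (G : Set Γ) := fun s hs =>
    Subgroup.mem_normalizer_iff.2 (normalises_of_subgroup hSG hs)
  have hmem : ∀ (s : S) (l : linOver N G),
      (l : G →* ℂˣ).comp (Coprime.conjAut hSN' s⁻¹ : G ≃* G).toMonoidHom ∈ linOver N G := by
    intro s l g hg
    refine l.2 _ ?_
    show ((Coprime.conjAut hSN' s⁻¹ g : G) : Γ) ∈ N
    rw [Coprime.conjAut_coe]
    exact hSN _ (s⁻¹).2 _ hg
  let φ : S →* MulAut (linOver N G) :=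
    { toFun := fun s =>
        { toFun := fun l => ⟨_, hmem s l⟩
          invFun := fun l => ⟨_, hmem s⁻¹ l⟩
          left_inv := fun l => Subtype.ext (MonoidHom.ext fun g => by
            simp only [MonoidHom.comp_apply]
            congr 1
            exact Subtype.ext (by simp [mul_assoc]))
          right_inv := fun l => Subtype.ext (MonoidHom.ext fun g => by
            simp only [MonoidHom.comp_apply]
            congr 1
            exact Subtype.ext (by simp [mul_assoc]))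
          map_mul' := fun a b => rfl }
      map_one' := MulEquiv.ext fun l => Subtype.ext (MonoidHom.ext fun g => by
        show (l : G →* ℂˣ) _ = (l : G →* ℂˣ) g
        congr 1
        exact Subtype.ext (by simp))
      map_mul' := fun a b => MulEquiv.ext fun l => Subtype.ext (MonoidHom.ext fun g => by
        show (l : G →* ℂˣ) _ = (l : G →* ℂˣ) _
        congr 1
        exact Subtype.ext (by simp [mul_assoc])) }
  have compat : ∀ (s : S) (l : linOver N G) (x : X), s • l • x = φ s l • s • x := by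
    intro s l x
    refine Subtype.ext ?_
    show ιS s • (l • x).1 = (φ s l • s • x).1
    refine smul_irr_eq (ιS s) fun g g' hg => ?_
    show ((ιS s • x.1 : IrrCharacter G) : G → ℂ) g' *
      (((l : G →* ℂˣ) (Coprime.conjAut hSN' s⁻¹ g')) : ℂ) = (x.1 : G → ℂ) g * ((l : G →* ℂˣ) g : ℂ)
    rw [smul_irr_spec (ιS s) x.1 g g' hg]
    congr 3
    exact Subtype.ext (by
      rw [Coprime.conjAut_coe]
      have hg' : (g' : Γ) = s * g * (s : Γ)⁻¹ := hg
      rw [Subgroup.coe_inv, hg']; simp [mul_assoc])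
  haveI : Finite (linOver N G) := by
    haveI : Finite (G →* ℂˣ) := Finite.of_injective
      (fun l : G →* ℂˣ => (⟨fun g => (l g : ℂ), Clifford.isIrrCharacter_hom l⟩ : IrrCharacter G))
      fun a b hab => MonoidHom.ext fun g => Units.ext (congrFun (congrArg Subtype.val hab) g)
    infer_instance
  have hcopL : (Nat.card S).Coprime (Nat.card (linOver N G)) := by
    refine Nat.coprime_of_dvd fun p hp hpS hpL => ?_
    haveI : Fact p.Prime := ⟨hp⟩
    obtain ⟨l, hl⟩ := exists_prime_orderOf_dvd_card' (G := linOver N G) p hpL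
    have h1 : l ^ N.relIndex G = 1 := Subtype.ext (MonoidHom.ext fun g => by
      show (((l ^ N.relIndex G : linOver N G) : G →* ℂˣ)) g = 1
      rw [Subgroup.coe_pow, MonoidHom.pow_apply, ← map_pow]
      exact l.2 _ (Subgroup.pow_index_mem (N.subgroupOf G) g))
    exact hp.not_dvd_one (hcop ▸ Nat.dvd_gcd (hl ▸ orderOf_dvd_of_pow_eq_one h1) hpS)
  obtain ⟨χ₀, hχ₀⟩ := exists_above hNG θ
  haveI : Nonempty X := ⟨⟨χ₀, hχ₀⟩⟩
  have htr : MulAction.IsPretransitive (linOver N G) X := ⟨fun x y => by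
    obtain ⟨l, hl, he⟩ := exists_lin_mul_eq hNG hab θ x.1 y.1 x.2 y.2
    exact ⟨⟨l, hl⟩, Subtype.ext (Subtype.ext he)⟩⟩
  obtain ⟨x, hx⟩ := Coprime.exists_fixed_point φ compat hcopL
    (Or.inr inferInstance) htr
  refine ⟨x.1, x.2, fun s hs => ?_⟩
  have h : ιS ⟨s, hs⟩ • x.1 = x.1 := congrArg Subtype.val (hx ⟨s, hs⟩)
  have h2 := smul_irr_spec (ιS ⟨s, hs⟩) x.1
  rw [h] at h2
  exact h2

/-- Invariant characters have invariant constituents above, for a solvable quotient of coprime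
order. -/
theorem exists_invariant_above :
    ∀ (G N : Subgroup Γ) (hNG : N ≤ G) [(N.subgroupOf G).Normal],
      Group.IsSolvable (G ⧸ N.subgroupOf G) →
      (∀ s ∈ S, ∀ g ∈ G, s * g * s⁻¹ ∈ G) → (∀ s ∈ S, ∀ n ∈ N, s * n * s⁻¹ ∈ N) →
      (N.relIndex G).Coprime (Nat.card S) →
      ∀ θ : IrrCharacter N, IsInv S (θ : N → ℂ) →
      ∃ χ : IrrCharacter G, charMult (resSub hNG (χ : G → ℂ)) (θ : N → ℂ) ≠ 0 ∧
        IsInv S (χ : G → ℂ) := by
  intro G N
  induction hk : N.relIndex G using Nat.strong_induction_on generalizing G with | _ k ih => ?_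
  intro hNG _ hsol hSG hSN hcop θ hinv
  by_cases hGN : G ≤ N
  · obtain rfl : N = G := le_antisymm hNG hGN
    classical
    refine ⟨θ, ?_, hinv⟩
    show charMult (θ : N → ℂ) (θ : N → ℂ) ≠ 0
    rw [charMult_irr, if_pos rfl]
    exact one_ne_zero
  haveI := hsol
  haveI : Nontrivial (G ⧸ N.subgroupOf G) := by
    obtain ⟨g, hg, hgN⟩ := SetLike.not_le_iff_exists.1 hGN
    exact ⟨⟨((⟨g, hg⟩ : G) : G ⧸ N.subgroupOf G), 1,
      fun e => hgN ((QuotientGroup.eq_one_iff (⟨g, hg⟩ : G)).1 e)⟩⟩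
  let π : G →* Abelianization (G ⧸ N.subgroupOf G) :=
    Abelianization.of.comp (QuotientGroup.mk' _)
  set M : Subgroup Γ := π.ker.map G.subtype with hM
  have hMmem : ∀ g : G, (g : Γ) ∈ M ↔ π g = 1 := fun g => by
    rw [hM]
    exact ⟨fun ⟨x, hx, e⟩ => Subtype.ext e ▸ hx, fun h => ⟨g, h, rfl⟩⟩
  have hMG : M ≤ G := Subgroup.map_subtype_le _
  have hNM : N ≤ M := fun n hn => (hMmem ⟨n, hNG hn⟩).2 (by
    show Abelianization.of ((⟨n, hNG hn⟩ : G) : G ⧸ N.subgroupOf G) = 1
    rw [(QuotientGroup.eq_one_iff (⟨n, hNG hn⟩ : G)).2 hn, map_one])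
  have hlt : M ≠ G := by
    intro e
    apply (Group.IsSolvable.commutator_lt_top_of_nontrivial (G := G ⧸ N.subgroupOf G)).ne
    rw [Subgroup.eq_top_iff']
    intro q
    obtain ⟨g, rfl⟩ := QuotientGroup.mk_surjective q
    exact (QuotientGroup.eq_one_iff _).1 ((hMmem g).1 (e.ge g.2))
  have hMn : (M.subgroupOf G).Normal := by
    have : M.subgroupOf G = π.ker := Subgroup.ext fun g => hMmem g
    rw [this]; infer_instance
  have hab : ∀ a ∈ G, ∀ b ∈ G, a * b * a⁻¹ * b⁻¹ ∈ M := fun a ha b hb =>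
    (hMmem (⟨a, ha⟩ * ⟨b, hb⟩ * (⟨a, ha⟩ : G)⁻¹ * (⟨b, hb⟩ : G)⁻¹)).2 (by
      rw [map_mul, map_mul, map_mul, map_inv, map_inv, mul_inv_cancel_comm, mul_inv_cancel])
  have hSN' : ∀ s ∈ S, Normalises s G := fun s hs => normalises_of_subgroup hSG hs
  have hSM : ∀ s ∈ S, ∀ m ∈ M, s * m * s⁻¹ ∈ M := by
    intro s hs m hm
    have hmG : m ∈ G := hMG hm
    refine (hMmem (conjEquiv (hSN' s hs) ⟨m, hmG⟩)).2 ?_
    have hle : N.subgroupOf G ≤ (N.subgroupOf G).comap (conjEquiv (hSN' s hs)).toMonoidHom :=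
      fun x hx => hSN s hs x hx
    have hm' : π ⟨m, hmG⟩ = 1 := (hMmem ⟨m, hmG⟩).1 hm
    show Abelianization.of (QuotientGroup.map _ _ _ hle ((⟨m, hmG⟩ : G) : G ⧸ N.subgroupOf G)) = 1
    rw [← Abelianization.map_of]
    show Abelianization.map _ (π ⟨m, hmG⟩) = 1
    rw [hm', map_one]
  have hidx := Subgroup.relIndex_mul_relIndex N M G hNM hMG
  have hMG1 : 1 < M.relIndex G := by
    have h0 : M.relIndex G ≠ 0 := Subgroup.index_ne_zero_of_finite
    have h1 : M.relIndex G ≠ 1 := fun e => hlt (le_antisymm hMG (Subgroup.relIndex_eq_one.1 e))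
    omega
  haveI hNMn : (N.subgroupOf M).Normal :=
    ⟨fun x hx g => (inferInstance : (N.subgroupOf G).Normal).conj_mem ⟨x, hMG x.2⟩ hx ⟨g, hMG g.2⟩⟩
  have hsolM : Group.IsSolvable (M ⧸ N.subgroupOf M) := by
    refine Group.isSolvable_of_isSolvable_injective (f := QuotientGroup.map (N.subgroupOf M)
      (N.subgroupOf G) (Subgroup.inclusion hMG) fun x hx => hx) ?_
    rw [injective_iff_map_eq_one]
    intro q hq
    induction q using QuotientGroup.induction_on with | H g => ?_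
    have hq' : ((Subgroup.inclusion hMG g : G) : G ⧸ N.subgroupOf G) = 1 := hq
    exact (QuotientGroup.eq_one_iff g).2
      (show (g : Γ) ∈ N from (QuotientGroup.eq_one_iff (Subgroup.inclusion hMG g)).1 hq')
  have hltk : N.relIndex M < k := by
    rw [← hk, ← hidx]
    have : N.relIndex M ≠ 0 := Subgroup.index_ne_zero_of_finite
    exact lt_mul_right (Nat.pos_of_ne_zero this) hMG1
  obtain ⟨ψ, hψ, hψi⟩ := ih _ hltk M rfl hNM hsolM hSM hSN
    (hcop.coprime_dvd_left (by rw [← hk, ← hidx]; exact Dvd.intro _ rfl)) θ hinv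
  obtain ⟨χ, hχ, hχi⟩ := exists_invariant_above_abelian hMG hab hSG hSM
    (hcop.coprime_dvd_left (by rw [← hk, ← hidx]; exact Dvd.intro_left _ rfl)) ψ hψi
  refine ⟨χ, fun h0 => ?_, hχi⟩
  rw [show resSub hNG (χ : G → ℂ) = resSub (hNM.trans hMG) (χ : G → ℂ) from rfl,
    charMult_trans hMG hNM (Chars.irr_isCharacter χ)] at h0
  rcases Nat.mul_eq_zero.1 (Finset.sum_eq_zero_iff.1 h0 ψ (Finset.mem_univ _)) with h1 | h1
  · exact hχ h1
  · exact hψ h1

end Cfsg.Agent.Lib.Glauberman
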