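import Mathlib
import Cfsg.Agent.Lib.Glauberman.Solvable
import Cfsg.Agent.Lib.Glauberman.Above
import Cfsg.Agent.Lib.Chars.Ops

/-!
# Invariant characters over a central character

`Z ≤ G ◁ Q` with `Z` central in `Q` and coprime indices `[Q:G]`, `[G:Z]`: some irreducible
character of `G` fixed by `Q` lies over a given linear character of `Z`.
-/

set_option autoImplicit false

namespace Cfsg.Agent.Lib.Glauberman

open Cfsg
open Cfsg.Agent.Lib
open scoped ComplexConjugate

variable {Q : Type*} [Group Q] [Finite Q] {G Z : Subgroup Q}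

/-- A central subgroup below: the restriction is a multiple of one linear character. -/
theorem apply_eq_of_central {H W : Subgroup Q} (hWH : W ≤ H)
    (hc : ∀ h ∈ H, ∀ w ∈ W, h * w = w * h) (η : IrrCharacter H) (θ : IrrCharacter W)
    (h : charMult (resSub hWH (η : H → ℂ)) (θ : W → ℂ) ≠ 0) (hθ : (θ : W → ℂ) 1 = 1) (w : W) :
    (η : H → ℂ) ⟨w, hWH w.2⟩ = (η : H → ℂ) 1 * (θ : W → ℂ) w := by
  classical
  have hd := eq_sum_charMult (isCharacter_resSub hWH (Chars.irr_isCharacter η))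
  have hz : ∀ φ : IrrCharacter W, φ ≠ θ → charMult (resSub hWH (η : H → ℂ)) (φ : W → ℂ) = 0 := by
    intro φ hne
    by_contra h0
    obtain ⟨g, hg, hgc⟩ := exists_conj_of_constituent hWH
      (fun x hx y hy => by rw [hc x hx y hy, mul_inv_cancel_right]; exact hy) η θ φ h h0
    exact hne (Subtype.ext (funext fun x =>
      hgc x x (by rw [hc g hg x x.2, mul_inv_cancel_right])))
  rw [Finset.sum_eq_single θ (fun φ _ hne => by rw [hz φ hne, Nat.cast_zero, zero_smul])
    (fun h' => absurd (Finset.mem_univ _) h')] at hd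
  have h1 : (η : H → ℂ) 1 = (charMult (resSub hWH (η : H → ℂ)) (θ : W → ℂ) : ℂ) * (θ : W → ℂ) 1 :=
    congrFun hd 1
  have hw : (η : H → ℂ) ⟨w, hWH w.2⟩ =
      (charMult (resSub hWH (η : H → ℂ)) (θ : W → ℂ) : ℂ) * (θ : W → ℂ) w := congrFun hd w
  rw [hw, h1, hθ, mul_one]

/-- Splitting a central subgroup along a number. -/
theorem exists_central_split (Z : Subgroup Q) (hZ : ∀ q : Q, ∀ z ∈ Z, q * z = z * q) (m : ℕ) :
    ∃ A : Subgroup Q, A ≤ Z ∧ (Nat.card A).Coprime m ∧
      ∀ p : ℕ, p.Prime → p ∣ A.relIndex Z → p ∣ m := by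
  let M := m ^ Nat.card Z
  let f : Z →* Z :=
    { toFun := fun z => z ^ M
      map_one' := one_pow _
      map_mul' := fun a b => (Commute.mul_pow (Subtype.ext (hZ a b b.2) : a * b = b * a) M) }
  refine ⟨f.range.map Z.subtype, Subgroup.map_subtype_le _, ?_, fun p hp hpd => ?_⟩
  · rw [Subgroup.card_map_of_injective Z.subtype_injective]
    refine Nat.coprime_of_dvd fun p hp hpA hpm => ?_
    haveI : Fact p.Prime := ⟨hp⟩
    obtain ⟨y, hy⟩ := exists_prime_orderOf_dvd_card' (G := f.range) p hpA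
    obtain ⟨z, hz⟩ := y.2
    rw [← Subgroup.orderOf_coe, ← hz] at hy
    have hy' : orderOf z / (orderOf z).gcd M = p := by rw [← hy]; exact (orderOf_pow z).symm
    set n := orderOf z with hn
    have hn0 : n ≠ 0 := (orderOf_pos z).ne'
    have hv : (n.gcd M) * p = n := by
      rw [← hy', Nat.mul_div_cancel' (Nat.gcd_dvd_left _ _)]
    have hk : n ≤ Nat.card Z := Nat.le_of_dvd Nat.card_pos (orderOf_dvd_natCard z)
    have hb : ∀ j, p ^ j ∣ n → p ^ (j + 1) ∣ n := fun j hj => by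
      have hjk : j ≤ Nat.card Z :=
        ((Nat.lt_pow_self hp.one_lt).le.trans (Nat.le_of_dvd (Nat.pos_of_ne_zero hn0) hj)).trans hk
      have : p ^ j ∣ n.gcd M :=
        Nat.dvd_gcd hj ((pow_dvd_pow p hjk).trans (pow_dvd_pow_of_dvd hpm _))
      rw [pow_succ, ← hv]
      exact mul_dvd_mul this dvd_rfl
    have hall : ∀ j, p ^ j ∣ n := fun j => Nat.rec (by simp) hb j
    exact Nat.not_dvd_of_pos_of_lt (Nat.pos_of_ne_zero hn0) (Nat.lt_pow_self hp.one_lt) (hall n)
  · haveI : Fact p.Prime := ⟨hp⟩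
    have h1 : (f.range.map Z.subtype).relIndex Z = f.range.index := by
      rw [Subgroup.relIndex, Subgroup.subgroupOf, Subgroup.comap_map_eq_self_of_injective
        Z.subtype_injective]
    rw [h1] at hpd
    have h2 : f.range.index = Nat.card f.ker := by
      have a1 := f.range.index_mul_card
      have a2 : f.ker.index = Nat.card f.range := Subgroup.index_ker f
      have a3 := f.ker.index_mul_card
      rw [a2] at a3
      exact Nat.eq_of_mul_eq_mul_right Nat.card_pos (a1.trans (by rw [← a3, mul_comm]))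
    rw [h2] at hpd
    obtain ⟨x, hx⟩ := exists_prime_orderOf_dvd_card' (G := f.ker) p hpd
    have h3 : (x : Z) ^ M = 1 := x.2
    have h4 : p ∣ M := hx ▸ Subgroup.orderOf_coe x ▸ orderOf_dvd_of_pow_eq_one h3
    exact hp.dvd_of_dvd_pow h4

/-- Invariant characters over a central character. -/
theorem exists_invariant_over_central [G.Normal] (hZG : Z ≤ G)
    (hZ : ∀ q : Q, ∀ z ∈ Z, q * z = z * q) (hcop : G.index.Coprime (Z.relIndex G))
    (hsol : Group.IsSolvable (Q ⧸ G) ∨
      ∀ [(Z.subgroupOf G).Normal], Group.IsSolvable (G ⧸ Z.subgroupOf G))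
    (l : Z →* ℂˣ) :
    ∃ β : IrrCharacter G,
      (∀ z : Z, (β : G → ℂ) ⟨z, hZG z.2⟩ = (β : G → ℂ) 1 * (l z : ℂ)) ∧
      ∀ (q : Q) (g g' : G), (g' : Q) = q * g * q⁻¹ → (β : G → ℂ) g' = (β : G → ℂ) g := by
  set m := Z.relIndex G with hm
  obtain ⟨A, hAZ, hAm, hAi⟩ := exists_central_split Z hZ m
  have hAG : A ≤ G := hAZ.trans hZG
  haveI : (A.subgroupOf G).Normal :=
    ⟨fun a ha g => by
      show (g : Q) * a * (g : Q)⁻¹ ∈ A
      rw [hZ g a (hAZ ha), mul_inv_cancel_right]; exact ha⟩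
  have hm0 : m ≠ 0 := Subgroup.index_ne_zero_of_finite
  have hmul : A.relIndex Z * m = A.relIndex G := Subgroup.relIndex_mul_relIndex A Z G hAZ hZG
  have hpr : ∀ p : ℕ, p.Prime → p ∣ A.relIndex G → p ∣ m := fun p hp h =>
    (hp.dvd_mul.1 (hmul ▸ h)).elim (hAi p hp) id
  have hcardA : (Nat.card (A.subgroupOf G)) = Nat.card A :=
    Nat.card_congr (Subgroup.subgroupOfEquivOfLe hAG).toEquiv
  have hcA : (Nat.card (A.subgroupOf G)).Coprime (A.subgroupOf G).index := by
    rw [hcardA]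
    refine Nat.coprime_of_dvd fun p hp hp1 hp2 => ?_
    exact hp.not_dvd_one (hAm ▸ Nat.dvd_gcd hp1 (hpr p hp hp2))
  obtain ⟨H₀, hH₀⟩ := Subgroup.exists_right_complement'_of_coprime hcA
  set H : Subgroup Q := H₀.map G.subtype with hH
  have hHG : H ≤ G := Subgroup.map_subtype_le _
  have hHsub : H.subgroupOf G = H₀ := by
    rw [hH, Subgroup.subgroupOf, Subgroup.comap_map_eq_self_of_injective G.subtype_injective]
  have hHcard : Nat.card H = A.relIndex G := by
    rw [hH, Subgroup.card_map_of_injective G.subtype_injective, Subgroup.relIndex,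
      hH₀.symm.index_eq_card]
  have hHm : ∀ p : ℕ, p.Prime → p ∣ Nat.card H → p ∣ m := fun p hp h => hpr p hp (hHcard ▸ h)
  have hHA : (Nat.card H).Coprime (Nat.card A) := by
    rw [hHcard, ← hcardA]; exact hcA.symm
  have hdec : ∀ g ∈ G, ∃ h ∈ H, ∃ a ∈ A, g = h * a := by
    intro g hg
    obtain ⟨⟨a, h⟩, e⟩ := hH₀.2 (⟨g, hg⟩ : G)
    refine ⟨(h.1 : G), ⟨h.1, h.2, rfl⟩, (a.1 : G), a.2, ?_⟩
    have e' : ((a.1 : G) : Q) * ((h.1 : G) : Q) = g := congrArg Subtype.val e
    exact e'.symm.trans (hZ _ _ (hAZ a.2)).symm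
  -- `H` is the set of elements of `G` of order dividing its order
  have hHchar : ∀ g ∈ G, g ^ Nat.card H = 1 → g ∈ H := by
    intro g hg h1
    obtain ⟨h, hh, a, ha, rfl⟩ := hdec g hg
    have h2 : h ^ Nat.card H = 1 := by
      exact congrArg Subtype.val (pow_card_eq_one' (x := (⟨h, hh⟩ : H)))
    rw [Commute.mul_pow (hZ h a (hAZ ha) : Commute h a), h2, one_mul] at h1
    have h3 : orderOf a ∣ Nat.card A := Subgroup.orderOf_coe (⟨a, ha⟩ : A) ▸ orderOf_dvd_natCard _
    have : a = 1 := orderOf_eq_one_iff.1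
      (Nat.eq_one_of_dvd_coprimes hHA (orderOf_dvd_of_pow_eq_one h1) h3)
    rw [this, mul_one]; exact hh
  have hHn : ∀ q : Q, ∀ h ∈ H, q * h * q⁻¹ ∈ H := fun q h hh => by
    refine hHchar _ (‹G.Normal›.conj_mem h (hHG hh) q) ?_
    have h2 : h ^ Nat.card H = 1 :=
      congrArg Subtype.val (pow_card_eq_one' (x := (⟨h, hh⟩ : H)))
    rw [conj_pow, h2]
    simp
  haveI hHnormal : H.Normal := ⟨fun h hh q => hHn q h hh⟩
  have hidxH : H.index = G.index * Nat.card A := by
    have h1 := Subgroup.relIndex_mul_index hHG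
    have h2 : H.relIndex G = Nat.card A := by
      rw [Subgroup.relIndex, hHsub, hH₀.index_eq_card, hcardA]
    rw [← h1, h2, mul_comm]
  have hcH : (Nat.card H).Coprime H.index := by
    rw [hidxH]
    refine Nat.Coprime.mul_right (Nat.coprime_of_dvd fun p hp hp1 hp2 => ?_) hHA
    exact hp.not_dvd_one (hcop ▸ Nat.dvd_gcd hp2 (hHm p hp hp1))
  obtain ⟨S, hS⟩ := Subgroup.exists_right_complement'_of_coprime hcH
  have hScard : Nat.card S = H.index := hS.symm.index_eq_card.symm
  have hcS : (Nat.card H).Coprime (Nat.card S) := hScard ▸ hcH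
  have hSn : ∀ s ∈ S, Normalises s H := fun s _ => normalises_of_mem (hHn s)
  set W := H ⊓ Z with hW
  have hWH : W ≤ H := inf_le_left
  have hWn : ∀ q : Q, ∀ w ∈ W, q * w * q⁻¹ ∈ W := fun q w hw => by
    rw [hZ q w hw.2, mul_inv_cancel_right]; exact hw
  let θ : IrrCharacter W :=
    ⟨fun w => (l ⟨w, w.2.2⟩ : ℂ), Clifford.isIrrCharacter_hom
      (l.comp (Subgroup.inclusion (inf_le_right : W ≤ Z)))⟩
  have hθ1 : (θ : W → ℂ) 1 = 1 := by
    show ((l (⟨((1 : W) : Q), _⟩ : Z) : ℂˣ) : ℂ) = 1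
    rw [show (⟨((1 : W) : Q), (1 : W).2.2⟩ : Z) = 1 from Subtype.ext rfl, map_one, Units.val_one]
  have hθinv : IsInv S (θ : W → ℂ) := fun s hs w w' hw => by
    rw [show w' = w from Subtype.ext (by rw [hw, hZ s w w.2.2, mul_inv_cancel_right])]
  obtain ⟨η, hη, hηi⟩ : ∃ η : IrrCharacter H,
      charMult (resSub hWH (η : H → ℂ)) (θ : W → ℂ) ≠ 0 ∧ IsInv S (η : H → ℂ) := by
    rcases hsol with hq | hg
    · have hSsol : Group.IsSolvable S := by
        let f : S →* Q ⧸ G := (QuotientGroup.mk' G).comp S.subtype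
        haveI := hq
        haveI hker : Group.IsSolvable f.ker := by
          refine Group.isSolvable_of_comm fun x y => ?_
          have hx : ((x : S) : Q) ∈ G := (QuotientGroup.eq_one_iff _).1 x.2
          have hy : ((y : S) : Q) ∈ G := (QuotientGroup.eq_one_iff _).1 y.2
          obtain ⟨h, hh, a, ha, hxe⟩ := hdec _ hx
          obtain ⟨h', hh', a', ha', hye⟩ := hdec _ hy
          let π := QuotientGroup.mk' H
          have hπ : π ((x : S) : Q) * π ((y : S) : Q) = π ((y : S) : Q) * π ((x : S) : Q) := by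
            rw [hxe, hye, map_mul, map_mul, show π h = 1 from (QuotientGroup.eq_one_iff h).2 hh,
              show π h' = 1 from (QuotientGroup.eq_one_iff h').2 hh', one_mul, one_mul, ← map_mul,
              ← map_mul, hZ a a' (hAZ ha')]
          have h1 : (((x : S) : Q) * (y : S))⁻¹ * ((y : S) * (x : S)) ∈ H := by
            rw [← QuotientGroup.eq_one_iff (N := H)]
            show π _ = 1
            rw [map_mul, map_inv, map_mul, map_mul, hπ, inv_mul_cancel]
          have h2 : (((x : S) : Q) * (y : S))⁻¹ * ((y : S) * (x : S)) ∈ S :=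
            S.mul_mem (S.inv_mem (S.mul_mem (x : S).2 (y : S).2)) (S.mul_mem (y : S).2 (x : S).2)
          have h3 := Subgroup.disjoint_def.1 hS.disjoint h1 h2
          exact Subtype.ext (Subtype.ext (inv_mul_eq_one.1 h3))
        exact Group.isSolvable_of_ker_le_range f.ker.subtype f (by simp)
      obtain ⟨f, f', hf, hf', -, -, hcomp⟩ := exists_corr_pair S hSsol H W _ _ hWH
        (inf_le_inf_right _ hWH) (fun g _ w hw => hWn g w hw) hSn
        (fun s _ => normalises_of_mem (hWn s)) hcS rfl rfl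
      obtain ⟨α, hα⟩ := hf'.surj θ hθinv
      obtain ⟨b, hb⟩ := exists_above (inf_le_inf_right _ hWH) α
      exact ⟨f b, hα ▸ hcomp b α hb, hf.inv b⟩
    · haveI : (Z.subgroupOf G).Normal := ⟨fun z hz g => by
        show (g : Q) * z * (g : Q)⁻¹ ∈ Z
        rw [hZ g z hz, mul_inv_cancel_right]; exact hz⟩
      haveI : (W.subgroupOf H).Normal := ⟨fun w hw g => hWn g w hw⟩
      have hsolW : Group.IsSolvable (H ⧸ W.subgroupOf H) := by
        haveI := @hg inferInstance
        refine Group.isSolvable_of_isSolvable_injective (f := QuotientGroup.map (W.subgroupOf H)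
          (Z.subgroupOf G) (Subgroup.inclusion hHG) fun x hx => hx.2) ?_
        rw [injective_iff_map_eq_one]
        intro q hq
        induction q using QuotientGroup.induction_on with | H g => ?_
        have hq' : ((Subgroup.inclusion hHG g : G) : G ⧸ Z.subgroupOf G) = 1 := hq
        exact (QuotientGroup.eq_one_iff g).2
          ⟨g.2, (QuotientGroup.eq_one_iff (Subgroup.inclusion hHG g)).1 hq'⟩
      exact exists_invariant_above H W hWH hsolW (fun s _ => hHn s) (fun s _ => hWn s)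
        (hcS.coprime_dvd_left (by
          show (W.subgroupOf H).index ∣ _
          exact Subgroup.index_dvd_card _)) θ hθinv
  -- `η` is invariant under all of `Q`
  have hηQ : ∀ q : Q, IsConjBy q (η : H → ℂ) (η : H → ℂ) := by
    intro q
    obtain ⟨⟨h, s⟩, e⟩ := hS.2 q
    have e' : (h : Q) * (s : Q) = q := e
    rw [← e']
    exact IsConjBy.trans (normalises_of_mem (hHn s)) (hηi s s.2)
      (isConjBy_self_of_mem (Chars.irr_isClassFunction η) h.2)
  let F : H × A →* G :=
    { toFun := fun p => ⟨p.1 * p.2, G.mul_mem (hHG p.1.2) (hAG p.2.2)⟩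
      map_one' := Subtype.ext (by simp)
      map_mul' := fun p p' => Subtype.ext (by
        show (p.1 : Q) * p'.1 * (p.2 * p'.2) = p.1 * p.2 * (p'.1 * p'.2)
        rw [mul_assoc, ← mul_assoc (p'.1 : Q), hZ _ _ (hAZ p.2.2)]
        simp [mul_assoc]) }
  have hFbij : Function.Bijective F := by
    refine ⟨(injective_iff_map_eq_one _).2 fun p hp => ?_, fun g => ?_⟩
    · have h1 : (p.1 : Q) * p.2 = 1 := congrArg Subtype.val hp
      have h2 : (p.2 : Q) ∈ H := by
        rw [show (p.2 : Q) = (p.1 : Q)⁻¹ from eq_inv_of_mul_eq_one_right h1]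
        exact H.inv_mem p.1.2
      have h3 : (p.2 : Q) = 1 := by
        have a1 : orderOf (p.2 : Q) ∣ Nat.card H :=
          Subgroup.orderOf_coe (⟨_, h2⟩ : H) ▸ orderOf_dvd_natCard _
        have a2 : orderOf (p.2 : Q) ∣ Nat.card A :=
          Subgroup.orderOf_coe p.2 ▸ orderOf_dvd_natCard _
        exact orderOf_eq_one_iff.1 (Nat.eq_one_of_dvd_coprimes hHA a1 a2)
      rw [h3, mul_one] at h1
      exact Prod.ext (Subtype.ext h1) (Subtype.ext h3)
    · obtain ⟨h, hh, a, ha, e⟩ := hdec g g.2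
      exact ⟨(⟨h, hh⟩, ⟨a, ha⟩), Subtype.ext e.symm⟩
  let e := MulEquiv.ofBijective F hFbij
  let pr : G →* H := (MonoidHom.fst H A).comp e.symm.toMonoidHom
  let lA : G →* ℂˣ := (l.comp (Subgroup.inclusion hAZ)).comp
    ((MonoidHom.snd H A).comp e.symm.toMonoidHom)
  have hpr : Function.Surjective pr := fun h => ⟨e (h, 1), by simp [pr]⟩
  let β₀ : IrrCharacter G :=
    ⟨fun g => (η : H → ℂ) (pr g), Chars.isIrrCharacter_comp_surjective pr hpr η.2⟩
  refine ⟨⟨_, isIrr_mul_hom β₀ lA⟩, fun z => ?_, fun q g g' hg' => ?_⟩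
  · obtain ⟨⟨h, a⟩, hz⟩ := e.surjective ⟨z, hZG z.2⟩
    have hz' : (h : Q) * a = z := congrArg Subtype.val hz
    have hhZ : (h : Q) ∈ Z := by
      rw [eq_mul_inv_of_mul_eq hz']
      exact Z.mul_mem z.2 (Z.inv_mem (hAZ a.2))
    have hηw : (η : H → ℂ) h = (η : H → ℂ) 1 * (l ⟨h, hhZ⟩ : ℂ) :=
      apply_eq_of_central hWH (fun x _ w hw => hZ x w hw.2) η θ hη hθ1 ⟨h, h.2, hhZ⟩
    have hl : l z = l ⟨h, hhZ⟩ * l ⟨a, hAZ a.2⟩ := by
      rw [← map_mul]; exact congrArg l (Subtype.ext hz'.symm)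
    show (η : H → ℂ) (pr _) * (lA _ : ℂ) = (η : H → ℂ) (pr 1) * (lA 1 : ℂ) * (l z : ℂ)
    rw [show pr ⟨z, hZG z.2⟩ = h by simp [pr, ← hz],
      show lA ⟨z, hZG z.2⟩ = l ⟨a, hAZ a.2⟩ by simp [lA, ← hz]; rfl, map_one, map_one,
      Units.val_one, hl, hηw, Units.val_mul]
    ring
  · obtain ⟨⟨h, a⟩, rfl⟩ := e.surjective g
    have hg : g' = e (⟨q * h * q⁻¹, hHn q h h.2⟩, a) := Subtype.ext (by
      rw [hg']
      show q * ((h : Q) * a) * q⁻¹ = q * h * q⁻¹ * a
      calc q * ((h : Q) * a) * q⁻¹ = q * h * q⁻¹ * (q * a * q⁻¹) := by group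
        _ = _ := by rw [hZ q a (hAZ a.2), mul_inv_cancel_right])
    subst hg
    show (η : H → ℂ) (pr _) * (lA _ : ℂ) = (η : H → ℂ) (pr _) * (lA _ : ℂ)
    simp only [pr, lA, MonoidHom.comp_apply, MulEquiv.coe_toMonoidHom, MulEquiv.symm_apply_apply,
      MonoidHom.coe_fst, MonoidHom.coe_snd]
    rw [hηQ q h ⟨q * h * q⁻¹, hHn q h h.2⟩ rfl]

end Cfsg.Agent.Lib.Glauberman
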