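import Mathlib
import Cfsg.Agent.Lib.Glauberman.Defs
import Cfsg.Agent.Lib.Coprime.Glauberman

/-!
# Conjugacy classes fixed by a coprime group of operators
-/

set_option autoImplicit false

namespace Cfsg.Agent.Lib.Glauberman

open Cfsg.Agent.Lib

variable {Γ : Type*} [Group Γ] [Finite Γ] {G S : Subgroup Γ}

/-- Every fixed class meets the fixed point subgroup, in a single class of it. -/
theorem class_fixed_points (hnorm : ∀ s ∈ S, ∀ g ∈ G, s * g * s⁻¹ ∈ G)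
    (hcop : (Nat.card G).Coprime (Nat.card S))
    (hsolv : Group.IsSolvable S ∨ Group.IsSolvable G) (g₀ : Γ)
    (hfix : ∀ s ∈ S, ∃ h ∈ G, s * g₀ * s⁻¹ = h * g₀ * h⁻¹) :
    (∃ h ∈ G, ∀ s ∈ S, s * (h * g₀ * h⁻¹) = h * g₀ * h⁻¹ * s) ∧
    ∀ a ∈ G, ∀ b ∈ G, (∀ s ∈ S, s * (a * g₀ * a⁻¹) = a * g₀ * a⁻¹ * s) →
      (∀ s ∈ S, s * (b * g₀ * b⁻¹) = b * g₀ * b⁻¹ * s) →
      ∃ k ∈ G ⊓ Subgroup.centralizer (S : Set Γ), k * (a * g₀ * a⁻¹) * k⁻¹ = b * g₀ * b⁻¹ := by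
  let X := {x : Γ // ∃ h ∈ G, x = h * g₀ * h⁻¹}
  letI : MulAction G X :=
    { smul := fun k x => ⟨k * x.1 * (k : Γ)⁻¹, by
        obtain ⟨h, hh, hx⟩ := x.2
        exact ⟨k * h, G.mul_mem k.2 hh, by rw [hx]; simp [mul_assoc]⟩⟩
      one_smul := fun x => Subtype.ext (by show (1 : Γ) * x.1 * (1 : Γ)⁻¹ = x.1; simp)
      mul_smul := fun a b x => Subtype.ext (by
        show ((a : Γ) * b) * x.1 * ((a : Γ) * b)⁻¹ = a * (b * x.1 * (b : Γ)⁻¹) * (a : Γ)⁻¹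
        simp [mul_assoc]) }
  letI : MulAction S X :=
    { smul := fun s x => ⟨s * x.1 * (s : Γ)⁻¹, by
        obtain ⟨h, hh, hx⟩ := x.2
        obtain ⟨k, hk, hsk⟩ := hfix s s.2
        refine ⟨s * h * (s : Γ)⁻¹ * k, G.mul_mem (hnorm s s.2 h hh) hk, ?_⟩
        calc (s : Γ) * x.1 * (s : Γ)⁻¹
            = (s * h * (s : Γ)⁻¹) * (s * g₀ * (s : Γ)⁻¹) * (s * h * (s : Γ)⁻¹)⁻¹ := by
              rw [hx]; group
          _ = _ := by rw [hsk]; group⟩
      one_smul := fun x => Subtype.ext (by show (1 : Γ) * x.1 * (1 : Γ)⁻¹ = x.1; simp)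
      mul_smul := fun a b x => Subtype.ext (by
        show ((a : Γ) * b) * x.1 * ((a : Γ) * b)⁻¹ = a * (b * x.1 * (b : Γ)⁻¹) * (a : Γ)⁻¹
        simp [mul_assoc]) }
  have hSG : S ≤ Subgroup.normalizer (G : Set Γ) := fun s hs =>
    Subgroup.mem_normalizer_iff.2 (normalises_of_subgroup hnorm hs)
  haveI : Nonempty X := ⟨⟨g₀, 1, G.one_mem, by simp⟩⟩
  have compat : ∀ (s : S) (k : G) (x : X), s • k • x = Coprime.conjAut hSG s k • s • x :=
    fun s k x => Subtype.ext (by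
      show (s : Γ) * (k * x.1 * (k : Γ)⁻¹) * (s : Γ)⁻¹ =
        ((Coprime.conjAut hSG s k : G) : Γ) * (s * x.1 * (s : Γ)⁻¹) *
          ((Coprime.conjAut hSG s k : G) : Γ)⁻¹
      rw [Coprime.conjAut_coe]
      simp [mul_assoc])
  have htr : MulAction.IsPretransitive G X := ⟨fun x y => by
    obtain ⟨h, hh, hx⟩ := x.2
    obtain ⟨h', hh', hy⟩ := y.2
    refine ⟨⟨h' * h⁻¹, G.mul_mem hh' (G.inv_mem hh)⟩, Subtype.ext ?_⟩
    show h' * h⁻¹ * x.1 * (h' * h⁻¹)⁻¹ = y.1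
    rw [hx, hy]; simp [mul_assoc]⟩
  have fixed : ∀ x : X, (∀ s : S, s • x = x) ↔ ∀ s ∈ S, s * x.1 = x.1 * s := fun x => by
    constructor
    · intro h s hs
      exact mul_inv_eq_iff_eq_mul.1 (congrArg Subtype.val (h ⟨s, hs⟩))
    · intro h s
      exact Subtype.ext (mul_inv_eq_iff_eq_mul.2 (h s s.2))
  refine ⟨?_, fun a ha b hb hac hbc => ?_⟩
  · obtain ⟨x, hx⟩ := Coprime.exists_fixed_point_conj hSG compat hcop.symm hsolv htr
    obtain ⟨h, hh, he⟩ := x.2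
    exact ⟨h, hh, fun s hs => he ▸ (fixed x).1 hx s hs⟩
  · obtain ⟨k, hk, hkx⟩ := Coprime.exists_centralizer_smul_eq_conj hSG compat hcop.symm hsolv htr
      ((fixed ⟨_, a, ha, rfl⟩).2 hac) ((fixed ⟨_, b, hb, rfl⟩).2 hbc)
    exact ⟨k, ⟨k.2, hk⟩, congrArg Subtype.val hkx⟩

/-- Fixed classes of `G` correspond to the classes of the fixed point subgroup. -/
theorem card_fixed_classes (hnorm : ∀ s ∈ S, ∀ g ∈ G, s * g * s⁻¹ ∈ G)
    (hcop : (Nat.card G).Coprime (Nat.card S))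
    (hsolv : Group.IsSolvable S ∨ Group.IsSolvable G) (C : Subgroup Γ)
    (hC : C = G ⊓ Subgroup.centralizer (S : Set Γ)) :
    Nat.card (ConjClasses C) = Nat.card {K : ConjClasses G //
      ∀ s ∈ S, ∀ g g' : G, (g' : Γ) = s * g * s⁻¹ → ConjClasses.mk g = K →
        ConjClasses.mk g' = K} := by
  subst hC
  set C := G ⊓ Subgroup.centralizer (S : Set Γ)
  let ι : C →* G := Subgroup.inclusion inf_le_left
  have hfix : ∀ c : C, ∀ s ∈ S, ∀ g g' : G, (g' : Γ) = s * g * s⁻¹ →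
      ConjClasses.mk g = ConjClasses.mk (ι c) → ConjClasses.mk g' = ConjClasses.mk (ι c) := by
    intro c s hs g g' hg' hg
    obtain ⟨k, hk⟩ := isConj_iff.1 (ConjClasses.mk_eq_mk_iff_isConj.1 hg)
    have hk' : (k : Γ) * g * (k : Γ)⁻¹ = c := congrArg Subtype.val hk
    refine ConjClasses.mk_eq_mk_iff_isConj.2 (isConj_iff.2
      ⟨⟨s * k * s⁻¹, hnorm s hs k k.2⟩, Subtype.ext ?_⟩)
    show s * k * s⁻¹ * g' * (s * k * s⁻¹)⁻¹ = (c : Γ)
    calc s * k * s⁻¹ * g' * (s * k * s⁻¹)⁻¹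
        = s * ((k : Γ) * g * (k : Γ)⁻¹) * s⁻¹ := by rw [hg']; group
      _ = c := by
        rw [hk', Subgroup.mem_centralizer_iff.1 c.2.2 s hs, mul_inv_cancel_right]
  let F : ConjClasses C → {K : ConjClasses G //
      ∀ s ∈ S, ∀ g g' : G, (g' : Γ) = s * g * s⁻¹ → ConjClasses.mk g = K →
        ConjClasses.mk g' = K} := fun q => ⟨ConjClasses.map ι q, by
    induction q using Quotient.inductionOn with | h c => exact hfix c⟩
  refine Nat.card_eq_of_bijective F ⟨?_, ?_⟩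
  · intro q q' h
    induction q using Quotient.inductionOn with | h c => ?_
    induction q' using Quotient.inductionOn with | h c' => ?_
    have h' : ConjClasses.mk (ι c) = ConjClasses.mk (ι c') := congrArg Subtype.val h
    obtain ⟨k, hk⟩ := isConj_iff.1 (ConjClasses.mk_eq_mk_iff_isConj.1 h')
    have hk' : (k : Γ) * c * (k : Γ)⁻¹ = c' := congrArg Subtype.val hk
    have hc : ∀ s ∈ S, s * (c : Γ) * s⁻¹ = c := fun s hs => by
      rw [Subgroup.mem_centralizer_iff.1 c.2.2 s hs, mul_inv_cancel_right]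
    obtain ⟨x, hx, hxc⟩ := (class_fixed_points hnorm hcop hsolv (c : Γ)
      (fun s hs => ⟨1, G.one_mem, by rw [hc s hs]; simp⟩)).2 1 G.one_mem k k.2
      (fun s hs => by simpa using Subgroup.mem_centralizer_iff.1 c.2.2 s hs)
      (fun s hs => by rw [hk']; exact Subgroup.mem_centralizer_iff.1 c'.2.2 s hs)
    refine ConjClasses.mk_eq_mk_iff_isConj.2 (isConj_iff.2 ⟨⟨x, hx⟩, Subtype.ext ?_⟩)
    show x * c * x⁻¹ = (c' : Γ)
    rw [hk'] at hxc
    simpa using hxc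
  · rintro ⟨K, hK⟩
    induction K using Quotient.inductionOn with | h g => ?_
    obtain ⟨h, hh, hhS⟩ := (class_fixed_points hnorm hcop hsolv (g : Γ) (fun s hs => by
      obtain ⟨k, hk⟩ := isConj_iff.1 (ConjClasses.mk_eq_mk_iff_isConj.1
        (hK s hs g ⟨_, hnorm s hs g g.2⟩ rfl rfl).symm)
      exact ⟨k, k.2, (congrArg Subtype.val hk).symm⟩)).1
    refine ⟨ConjClasses.mk ⟨h * g * h⁻¹, G.mul_mem (G.mul_mem hh g.2) (G.inv_mem hh),
      Subgroup.mem_centralizer_iff.2 hhS⟩, Subtype.ext ?_⟩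
    exact ConjClasses.mk_eq_mk_iff_isConj.2 (isConj_iff.2
      ⟨⟨h, hh⟩⁻¹, Subtype.ext (by simp [ι, mul_assoc])⟩)

end Cfsg.Agent.Lib.Glauberman
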