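import Mathlib
import Cfsg.Agent.Lib.Glauberman.Central
import Cfsg.Agent.Lib.CharExt.Inertia
import Cfsg.Agent.Lib.CharExt.Characters
import Cfsg.Agent.Lib.Clifford.Gallagher

/-!
# Invariant constituents above for coprime layers

An invariant character of `N` becomes extendible in a finite central extension of the group, which
reduces the question to characters over a central character.
-/

set_option autoImplicit false

namespace Cfsg.Agent.Lib.Glauberman

open Cfsg
open Cfsg.Agent.Lib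
open scoped ComplexConjugate

universe u

variable {Γ : Type u} [Group Γ] [Finite Γ]

/-- The finite group of intertwiners with determinant of bounded order. -/
theorem exists_finite_cover (N : Subgroup Γ) [N.Normal] {k : ℕ}
    (σ : Representation ℂ N (Fin k → ℂ)) [σ.IsIrreducible]
    (hsurj : Function.Surjective (CharExt.projG N σ)) :
    ∃ E : Subgroup (CharExt.intertwinerGroup N σ), Finite E ∧
      (∀ n, CharExt.inclN N σ n ∈ E) ∧ ∀ g, ∃ e ∈ E, CharExt.projG N σ e = g := by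
  classical
  haveI := CharExt.nontrivial_of_isIrreducible σ
  set d := Module.finrank ℂ (Fin k → ℂ) with hd
  let e := Nat.card N
  have he : e ≠ 0 := Nat.card_pos.ne'
  haveI : NeZero (d * e) := ⟨mul_ne_zero Module.finrank_pos.ne' he⟩
  let E : Subgroup (CharExt.intertwinerGroup N σ) := (CharExt.detHom N σ ^ e).ker
  have hlift : ∀ g, ∃ x, x ∈ CharExt.finiteIntertwiners N σ ∧ CharExt.projG N σ x = g := fun g => by
    obtain ⟨t, rfl⟩ := hsurj g
    obtain ⟨c, hc⟩ := CharExt.exists_mem_finiteIntertwiners N σ t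
    exact ⟨_, hc, by rw [map_mul, CharExt.projG_inclScalar, mul_one]⟩
  choose r hr1 hr2 using hlift
  refine ⟨E, ?_, fun n => ?_, fun g => ⟨r g, ?_, hr2 g⟩⟩
  · let F : Γ × rootsOfUnity (d * e) ℂ → CharExt.intertwinerGroup N σ :=
      fun p => r p.1 * CharExt.inclScalar N σ p.2.1
    refine ((Set.finite_range F).subset fun x hx => ?_).to_subtype
    obtain ⟨c, hc⟩ := CharExt.exists_scalar_of_projG_eq N σ (a := x)
      (b := r (CharExt.projG N σ x)) (hr2 _).symm
    have h1 : c ^ (d * e) = 1 := by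
      have h2 : (CharExt.detHom N σ x) ^ e = 1 := hx
      have h3 : CharExt.detHom N σ (r (CharExt.projG N σ x)) = 1 := hr1 _
      rw [hc, map_mul, h3, one_mul, CharExt.detHom_inclScalar, ← pow_mul] at h2
      exact h2
    exact ⟨(CharExt.projG N σ x, ⟨c, (mem_rootsOfUnity _ c).2 h1⟩), hc.symm⟩
  · show CharExt.detHom N σ (CharExt.inclN N σ n) ^ e = 1
    rw [← map_pow, ← map_pow, show n ^ e = 1 from pow_card_eq_one', map_one, map_one]
  · show CharExt.detHom N σ (r g) ^ e = 1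
    rw [show CharExt.detHom N σ (r g) = 1 from hr1 g, one_pow]

/-- The main theorem on coprime layers. -/
theorem exists_invariant_layers (G N : Subgroup Γ) [hG : G.Normal] [hN : N.Normal] (hNG : N ≤ G)
    (hcop : G.index.Coprime (N.relIndex G))
    (hsolv : Group.IsSolvable (Γ ⧸ G) ∨ Group.IsSolvable (G ⧸ N.subgroupOf G))
    (θ : IrrCharacter N)
    (hinv : ∀ (x : Γ) (n : N), (θ : N → ℂ) ⟨x * n * x⁻¹, hN.conj_mem n n.2 x⟩ = (θ : N → ℂ) n) :
    ∃ χ : IrrCharacter G, charMult (resSub hNG (χ : G → ℂ)) (θ : N → ℂ) ≠ 0 ∧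
      ∀ (x : Γ) (g g' : G), (g' : Γ) = x * g * x⁻¹ → (χ : G → ℂ) g' = (χ : G → ℂ) g := by
  classical
  obtain ⟨k, σ, hσ, hθ⟩ := θ.2
  haveI := hσ
  haveI := CharExt.nontrivial_of_isIrreducible σ
  obtain ⟨E, hEfin, hNE, hEsurj⟩ := exists_finite_cover N σ
    (CharExt.projG_surjective_of_char_invariant N σ (θ : N → ℂ) hθ hinv)
  haveI := hEfin
  let π : E →* Γ := (CharExt.projG N σ).comp E.subtype
  have hπ : Function.Surjective π := fun g => by
    obtain ⟨e, he, rfl⟩ := hEsurj g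
    exact ⟨⟨e, he⟩, rfl⟩
  let i : N →* E := (CharExt.inclN N σ).codRestrict E hNE
  have hπi : ∀ n, π (i n) = n := fun n => rfl
  let R : Representation ℂ E (Fin k → ℂ) :=
    (Units.coeHom (Module.End ℂ (Fin k → ℂ))).comp ((CharExt.projT N σ).comp E.subtype)
  have hRi : ∀ n, R (i n) = σ n := fun n => rfl
  have hN₁ : (i.range).Normal := ⟨by
    rintro _ ⟨n, rfl⟩ e
    exact ⟨_, Subtype.ext (CharExt.inclN_conj N σ e.1 n).symm⟩⟩
  set N₁ := i.range with hN₁def
  -- the kernel of `π` consists of scalars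
  have hker : ∀ z : E, π z = 1 → ∃ c : ℂˣ, (z : CharExt.intertwinerGroup N σ) =
      CharExt.inclScalar N σ c := fun z hz => by
    obtain ⟨c, hc⟩ := CharExt.exists_scalar_of_projG_eq N σ (a := z.1) (b := 1)
      (hz.trans (map_one _).symm)
    exact ⟨c, by rw [hc, one_mul]⟩
  have hcentral : ∀ z : E, π z = 1 → ∀ e : E, e * z = z * e := fun z hz e => by
    obtain ⟨c, hc⟩ := hker z hz
    exact Subtype.ext (show (e : CharExt.intertwinerGroup N σ) * z = z * e by
      rw [hc]; exact (CharExt.inclScalar_central N σ c e.1).symm)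
  have hN₁π : ∀ x ∈ N₁, π x = 1 → x = 1 := by
    rintro _ ⟨n, rfl⟩ h
    have : n = 1 := Subtype.ext h
    rw [this, map_one]
  -- the quotient by `N`
  let mk := QuotientGroup.mk' N₁
  let Z : Subgroup (E ⧸ N₁) := π.ker.map mk
  let Gb : Subgroup (E ⧸ N₁) := (G.comap π).map mk
  haveI : Gb.Normal := Subgroup.Normal.map (Subgroup.Normal.comap hG π) _
    (QuotientGroup.mk'_surjective _)
  have hZG : Z ≤ Gb := Subgroup.map_mono fun z hz => by
    show π z ∈ G
    rw [hz]; exact G.one_mem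
  have hZc : ∀ q : E ⧸ N₁, ∀ z ∈ Z, q * z = z * q := by
    rintro q _ ⟨z, hz, rfl⟩
    obtain ⟨e, rfl⟩ := QuotientGroup.mk'_surjective _ q
    rw [← map_mul, hcentral z hz e, map_mul]
  have hN₁G : N₁ ≤ G.comap π := by
    rintro _ ⟨n, rfl⟩
    exact hNG n.2
  have hGb : Gb.comap mk = G.comap π := Subgroup.comap_map_eq_self (by
    rw [QuotientGroup.ker_mk']; exact hN₁G)
  have hGbi : Gb.index = G.index := by
    rw [← Subgroup.index_comap_of_surjective Gb (QuotientGroup.mk'_surjective N₁), hGb,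
      Subgroup.index_comap_of_surjective G hπ]
  have hZcomap : Z.comap mk = N.comap π := by
    rw [Subgroup.comap_map_eq, QuotientGroup.ker_mk']
    refine le_antisymm (sup_le (fun z hz => ?_) ?_) fun e he => ?_
    · show π z ∈ N
      rw [show π z = 1 from hz]; exact N.one_mem
    · rintro _ ⟨n, rfl⟩
      exact n.2
    · have he' : e * (i ⟨π e, he⟩)⁻¹ ∈ π.ker := by
        rw [MonoidHom.mem_ker, map_mul, map_inv, hπi, mul_inv_cancel]
      rw [show e = e * (i ⟨π e, he⟩)⁻¹ * i ⟨π e, he⟩ by simp]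
      exact Subgroup.mul_mem _ (Subgroup.mem_sup_left he') (Subgroup.mem_sup_right ⟨_, rfl⟩)
  have hrel : Z.relIndex Gb = N.relIndex G := by
    have h1 := Subgroup.relIndex_comap Z mk (G.comap π)
    have h2 := Subgroup.relIndex_comap N π (G.comap π)
    rw [hZcomap, h2, Subgroup.map_comap_eq_self_of_surjective hπ] at h1
    exact h1.symm
  -- transfer solvability
  have hsolQ : Group.IsSolvable ((E ⧸ N₁) ⧸ Gb) ∨
      ∀ [(Z.subgroupOf Gb).Normal], Group.IsSolvable (Gb ⧸ Z.subgroupOf Gb) := by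
    rcases hsolv with h | h
    · left
      haveI := h
      let f : E →* Γ ⧸ G := (QuotientGroup.mk' G).comp π
      have hf : N₁ ≤ f.ker := fun x hx => (QuotientGroup.eq_one_iff _).2 (hN₁G hx)
      let f₁ := QuotientGroup.lift N₁ f hf
      have hf₁ : Gb ≤ f₁.ker := by
        rintro _ ⟨x, hx, rfl⟩
        exact (QuotientGroup.eq_one_iff _).2 hx
      refine Group.isSolvable_of_isSolvable_injective (f := QuotientGroup.lift Gb f₁ hf₁) ?_
      rw [injective_iff_map_eq_one]
      intro q hq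
      obtain ⟨q, rfl⟩ := QuotientGroup.mk_surjective q
      obtain ⟨e, rfl⟩ := QuotientGroup.mk'_surjective _ q
      exact (QuotientGroup.eq_one_iff _).2
        ⟨e, (QuotientGroup.eq_one_iff (π e)).1 hq, rfl⟩
    · right
      intro hn
      haveI := h
      haveI : (N.subgroupOf G).Normal := inferInstance
      let f : G.comap π →* G ⧸ N.subgroupOf G :=
        (QuotientGroup.mk' _).comp ((π.comp (G.comap π).subtype).codRestrict G fun x => x.2)
      have hfs : Function.Surjective f := fun q => by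
        obtain ⟨g, rfl⟩ := QuotientGroup.mk_surjective q
        obtain ⟨e, he⟩ := hπ g
        exact ⟨⟨e, show π e ∈ G by rw [he]; exact g.2⟩, congrArg (QuotientGroup.mk (s := N.subgroupOf G)) (Subtype.ext he)⟩
      let g : G.comap π →* Gb ⧸ Z.subgroupOf Gb := (QuotientGroup.mk' _).comp
        ((mk.comp (G.comap π).subtype).codRestrict Gb fun x => ⟨x.1, x.2, rfl⟩)
      have hgs : Function.Surjective g := fun q => by
        obtain ⟨⟨_, e, he, rfl⟩, rfl⟩ := QuotientGroup.mk_surjective q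
        exact ⟨⟨e, he⟩, rfl⟩
      have hle : f.ker ≤ g.ker := fun x hx => by
        have h1 : π x.1 ∈ N := (QuotientGroup.eq_one_iff (⟨π x.1, x.2⟩ : G)).1 hx
        exact (QuotientGroup.eq_one_iff _).2 (show x.1 ∈ Z.comap mk from hZcomap ▸ h1)
      refine Group.isSolvable_of_surjective
        (f := f.liftOfSurjective hfs ⟨g, hle⟩) fun q => ?_
      obtain ⟨x, rfl⟩ := hgs q
      exact ⟨f x, f.liftOfRightInverse_comp_apply _ _ _ x⟩
  -- the central character
  have hZiso : Function.Bijective (mk.subgroupMap π.ker) :=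
    ⟨(injective_iff_map_eq_one _).2 fun z hz => Subtype.ext (hN₁π _
      ((QuotientGroup.eq_one_iff _).1 (congrArg Subtype.val hz)) z.2),
      MonoidHom.subgroupMap_surjective _ _⟩
  let lam : π.ker → ℂˣ := fun z => (hker z.1 z.2).choose
  have hlam : ∀ z : π.ker, ((z : E) : CharExt.intertwinerGroup N σ) =
      CharExt.inclScalar N σ (lam z) := fun z => (hker z.1 z.2).choose_spec
  have hinj : Function.Injective (CharExt.inclScalar N σ) := fun a b h =>
    CharExt.scalarUnit_injective (V := Fin k → ℂ) (congrArg (CharExt.projT N σ) h)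
  let lamHom : π.ker →* ℂˣ := MonoidHom.mk' lam fun a b => hinj (by
    rw [map_mul, ← hlam, ← hlam, ← hlam]; rfl)
  obtain ⟨β, hβZ, hβinv⟩ := exists_invariant_over_central (Q := E ⧸ N₁) hZG hZc
    (by rw [hGbi, hrel]; exact hcop) hsolQ
    (lamHom⁻¹.comp (MulEquiv.ofBijective _ hZiso).symm.toMonoidHom)
  -- the product on the preimage of `G`
  set Gs := G.comap π with hGs
  haveI : Fintype Gs := Fintype.ofFinite _
  let q : Gs →* Gb := (mk.comp Gs.subtype).codRestrict Gb fun x => ⟨x.1, x.2, rfl⟩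
  have hq : Function.Surjective q := by
    rintro ⟨_, e, he, rfl⟩
    exact ⟨⟨e, he⟩, rfl⟩
  let β₁ : IrrCharacter Gs :=
    ⟨fun x => (β : Gb → ℂ) (q x), Chars.isIrrCharacter_comp_surjective q hq β.2⟩
  let M := N₁.subgroupOf Gs
  haveI : M.Normal := Subgroup.Normal.subgroupOf hN₁ _
  obtain ⟨β₂, hβ₂⟩ := Chars.exists_irr_quotient M β₁ fun x hx => by
    show (β : Gb → ℂ) (q x) = (β : Gb → ℂ) (q 1)
    rw [show q x = q 1 by
      rw [map_one]; exact Subtype.ext ((QuotientGroup.eq_one_iff _).2 hx)]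
  haveI : Fintype M := Fintype.ofFinite _
  let R' : Representation ℂ Gs (Fin k → ℂ) := R.comp Gs.subtype
  let iM : N ≃* M := MulEquiv.ofBijective
    (MonoidHom.mk' (fun n => (⟨⟨i n, hN₁G ⟨n, rfl⟩⟩, ⟨n, rfl⟩⟩ : M)) fun a b =>
      Subtype.ext (Subtype.ext (map_mul i a b)))
    ⟨fun a b h => by
      have h' := congrArg (fun x : M => π ((x : Gs) : E)) h
      exact Subtype.ext h',
     fun x => by
      obtain ⟨n, hn⟩ := x.2
      exact ⟨n, Subtype.ext (Subtype.ext hn)⟩⟩
  have hiM : ∀ x : M, R'.character (x : Gs) = (θ : N → ℂ) (iM.symm x) := fun x => by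
    obtain ⟨n, rfl⟩ := iM.surjective x
    rw [MulEquiv.symm_apply_apply, ← hθ]
    rfl
  have hR'N : IsIrrCharacter M (Clifford.resFun M R'.character) := by
    rw [show Clifford.resFun M R'.character = fun x => (θ : N → ℂ) (iM.symm x) from funext hiM]
    exact Clifford.isIrrCharacter_comp_equiv iM.symm θ.2
  have hR' : IsIrrCharacter Gs R'.character := by
    refine ⟨k, R', CharExt.isIrreducible_of_comp
      ((M.subtype).comp iM.toMonoidHom) R' ?_, rfl⟩
    rw [show (R'.comp ((M.subtype).comp iM.toMonoidHom) : Representation ℂ N (Fin k → ℂ)) = σ from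
      MonoidHom.ext hRi]
    exact hσ
  let χs : IrrCharacter Gs :=
    ⟨_, (Clifford.gallagher hR' hR'N).1 β₂⟩
  have hχs : ∀ x : Gs, (χs : Gs → ℂ) x = R'.character x * (β : Gb → ℂ) (q x) := fun x => by
    show R'.character x * (Chars.inflate M β₂ : Gs → ℂ) x = _
    congr 1
    exact hβ₂ x
  let πG : Gs →* G := (π.comp Gs.subtype).codRestrict G fun x => x.2
  have hπG : Function.Surjective πG := fun g => by
    obtain ⟨e, he⟩ := hπ g
    exact ⟨⟨e, show π e ∈ G from he ▸ g.2⟩, Subtype.ext he⟩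
  have hχZ : ∀ x ∈ πG.ker, (χs : Gs → ℂ) x = (χs : Gs → ℂ) 1 := by
    intro x hx
    have hx' : (x : E) ∈ π.ker := congrArg Subtype.val hx
    have hb := hβZ ⟨mk x, ⟨x, hx', rfl⟩⟩
    have hz : (MulEquiv.ofBijective _ hZiso).symm ⟨mk (x : E), ⟨x, hx', rfl⟩⟩ = ⟨x, hx'⟩ := by
      rw [MulEquiv.symm_apply_eq]; rfl
    rw [MonoidHom.comp_apply, MulEquiv.coe_toMonoidHom, hz] at hb
    have hRx : R'.character x = (lam ⟨x, hx'⟩ : ℂ) * R'.character 1 := by
      have hT : R' x = (lam ⟨x, hx'⟩ : ℂ) • (1 : Module.End ℂ (Fin k → ℂ)) := by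
        show ((CharExt.projT N σ (x : E).1 : (Module.End ℂ (Fin k → ℂ))ˣ) :
          Module.End ℂ (Fin k → ℂ)) = _
        rw [hlam ⟨x, hx'⟩]
        exact Algebra.algebraMap_eq_smul_one _
      simp only [Representation.character, map_one R', hT, map_smul, smul_eq_mul]
    rw [hχs, hχs, hRx]
    have hb' : (β : Gb → ℂ) (q x) = (β : Gb → ℂ) 1 * (((lam ⟨x, hx'⟩)⁻¹ : ℂˣ) : ℂ) := hb
    rw [hb', map_one q]
    calc (lam ⟨x, hx'⟩ : ℂ) * R'.character 1 * ((β : Gb → ℂ) 1 * (((lam ⟨x, hx'⟩)⁻¹ : ℂˣ) : ℂ))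
        = R'.character 1 * (β : Gb → ℂ) 1 *
            ((lam ⟨x, hx'⟩ : ℂ) * (((lam ⟨x, hx'⟩)⁻¹ : ℂˣ) : ℂ)) := by ring
      _ = _ := by rw [Units.mul_inv, mul_one]
  obtain ⟨ψ, hψ⟩ := Chars.exists_irr_quotient πG.ker χs hχZ
  let eG := QuotientGroup.quotientKerEquivOfSurjective πG hπG
  let χ : IrrCharacter G := ⟨_, Clifford.isIrrCharacter_comp_equiv eG.symm ψ.2⟩
  have hχ : ∀ x : Gs, (χ : G → ℂ) (πG x) = R'.character x * (β : Gb → ℂ) (q x) := fun x => by
    rw [← hχs, ← hψ]
    show (ψ : _ → ℂ) (eG.symm (πG x)) = _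
    exact congrArg (ψ : Gs ⧸ πG.ker → ℂ) (eG.symm_apply_eq.2 rfl)
  refine ⟨χ, ?_, fun x g g' hg' => ?_⟩
  · have hres : resSub hNG (χ : G → ℂ) = fun n => (β : Gb → ℂ) 1 * (θ : N → ℂ) n := by
      funext n
      have h := hχ ⟨i n, hN₁G ⟨n, rfl⟩⟩
      rw [show q ⟨i n, hN₁G ⟨n, rfl⟩⟩ = 1 from Subtype.ext ((QuotientGroup.eq_one_iff _).2 ⟨n, rfl⟩),
        show R'.character ⟨i n, hN₁G ⟨n, rfl⟩⟩ = (θ : N → ℂ) n from congrFun hθ n,
        mul_comm] at h
      exact h
    haveI : Fintype N := Fintype.ofFinite _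
    obtain ⟨b, hb0, hb⟩ := Chars.isIrrCharacter_exists_degree_pos β.2
    rw [show charMult (resSub hNG (χ : G → ℂ)) (θ : N → ℂ) = b from charMult_eq_of (by
      rw [hres]
      show classInner ((β : Gb → ℂ) 1 • (θ : N → ℂ)) (θ : N → ℂ) = _
      rw [Chars.classInner_smul_left, Chars.classInner_irr_self, mul_one, hb])]
    omega
  · obtain ⟨xg, rfl⟩ := hπG g
    obtain ⟨e, rfl⟩ := hπ x
    have hmem : e * (xg : E) * e⁻¹ ∈ Gs := by
      show π (e * (xg : E) * e⁻¹) ∈ G
      rw [map_mul, map_mul, map_inv]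
      exact hG.conj_mem _ xg.2 _
    have hg : g' = πG ⟨_, hmem⟩ := Subtype.ext (by
      rw [hg']
      show π e * π (xg : E) * (π e)⁻¹ = π (e * (xg : E) * e⁻¹)
      rw [map_mul, map_mul, map_inv])
    rw [hg, hχ, hχ, hβinv (mk e) (q xg) (q ⟨_, hmem⟩) (by
      show mk (e * (xg : E) * e⁻¹) = mk e * mk (xg : E) * (mk e)⁻¹
      rw [map_mul, map_mul, map_inv])]
    congr 1
    exact Representation.char_conj R (xg : E) e

end Cfsg.Agent.Lib.Glauberman
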